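import Cfsg.Agent.Lib.CyclicSylow.Local
import Cfsg.Agent.Lib.StrongSec.EABlock

/-!
# Cyclic Sylow subgroups and pairs of elements of order `p`: the local and pair structure
-/

set_option autoImplicit false
set_option linter.unusedSectionVars false
set_option linter.style.haveILetI false

namespace Cfsg.Agent.Lib.CycPairs.Basic

open Cfsg Subgroup
open Cfsg.Agent.Lib.CyclicSylow Cfsg.Agent.Lib.CyclicSylow.Basic
open Cfsg.Agent.Lib.Core.Basic Cfsg.Agent.Lib.Core.PSolvable
open Cfsg.Agent.Lib.StrongSec.PairSolv Cfsg.Agent.Lib.StrongSec.EABlock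
open Cfsg.Agent.Lib.Blocks.PPart

universe u

section Local

variable {G : Type u} [Group G] [Finite G] {p : ℕ} [hp : Fact p.Prime]

/-- A `p`-element is conjugate into a given Sylow subgroup. -/
theorem exists_conj_mem (Q : Sylow p G) {u : G} (hu : ∃ k : ℕ, orderOf u = p ^ k) :
    ∃ t : G, t * u * t⁻¹ ∈ (Q : Subgroup G) := by
  obtain ⟨k, hk⟩ := hu
  have hz : IsPGroup p (zpowers u) := by
    rw [IsPGroup.iff_card, Nat.card_zpowers, hk]
    exact ⟨k, rfl⟩
  obtain ⟨S, hS⟩ := hz.exists_le_sylow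
  obtain ⟨c, hc⟩ := MulAction.exists_smul_eq G S Q
  refine ⟨c, ?_⟩
  rw [← hc, Sylow.smul_def]
  exact Subgroup.smul_mem_pointwise_smul u (MulAut.conj c) _ (hS (mem_zpowers u))

/-- All `p`-subgroups are cyclic, when one Sylow subgroup is. -/
theorem isCyclic_of_isPGroup (P : Sylow p G) (hP : IsCyclic P) (T : Subgroup G)
    (hT : IsPGroup p T) : IsCyclic T := by
  obtain ⟨S, hS⟩ := hT.exists_le_sylow
  obtain ⟨c, hc⟩ := MulAction.exists_smul_eq G S P
  have hmem : ∀ a ∈ T, c * a * c⁻¹ ∈ (P : Subgroup G) := by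
    intro a ha
    rw [← hc, Sylow.smul_def]
    exact Subgroup.smul_mem_pointwise_smul a (MulAut.conj c) _ (hS ha)
  let f : T →* (P : Subgroup G) :=
    { toFun := fun a => ⟨c * a * c⁻¹, hmem a a.2⟩
      map_one' := by
        apply Subtype.ext
        simp
      map_mul' := by
        intro a b
        apply Subtype.ext
        simp only [Subgroup.coe_mul, MulMemClass.mk_mul_mk]
        group }
  have hf : Function.Injective f := by
    intro a b hab
    have h := congrArg Subtype.val hab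
    change c * (a : G) * c⁻¹ = c * (b : G) * c⁻¹ at h
    exact Subtype.ext (mul_left_cancel (mul_right_cancel h))
  exact isCyclic_of_injective f hf

/-- `p`-subgroups are commutative, when one Sylow subgroup is cyclic. -/
theorem comm_of_isPGroup (P : Sylow p G) (hP : IsCyclic P) (T : Subgroup G)
    (hT : IsPGroup p T) : ∀ a ∈ T, ∀ b ∈ T, a * b = b * a := fun _ ha _ hb =>
  comm_of_isCyclic (isCyclic_of_isPGroup P hP T hT) ha hb

/-- An element normalizing a cyclic Sylow subgroup and centralizing a nonidentity element of it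
centralizes it. -/
theorem commute_of_normalizes_of_commute (Q : Sylow p G) (hQ : IsCyclic Q) {u y : G}
    (hu : u ∈ (Q : Subgroup G)) (hu1 : u ≠ 1) (hy : y ∈ normalizer ((Q : Subgroup G) : Set G))
    (hyu : Commute y u) {x : G} (hx : x ∈ (Q : Subgroup G)) : Commute y x := by
  have hpp : p.Prime := hp.out
  obtain ⟨k, hk⟩ := (IsPGroup.iff_orderOf.mp Q.isPGroup') ⟨u, hu⟩
  have hk' : orderOf u = p ^ k := by rw [← hk]; exact (Subgroup.orderOf_mk u hu).symm
  have hk0 : k ≠ 0 := by
    rintro rfl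
    rw [pow_zero, orderOf_eq_one_iff] at hk'
    exact hu1 hk'
  have hd : p ∣ orderOf u := by rw [hk']; exact dvd_pow_self p hk0
  set w := u ^ (orderOf u / p) with hw
  have hwo : orderOf w = p := orderOf_pow_orderOf_div (orderOf_pos u).ne' hd
  have hwQ : w ∈ (Q : Subgroup G) := Q.1.pow_mem hu _
  have hyw : Commute y w := hyu.pow_right _
  obtain ⟨a, b, e, hc, ⟨j, hj⟩, hb⟩ := exists_pPart_y (p := p) y
  have hPa : IsPPart p y a := ⟨b, e, hc, ⟨j, hj⟩, hb⟩
  have ha : a ∈ zpowers y := isPPart_mem_zpowers hPa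
  have hbz : b ∈ zpowers y := by
    have : b = a⁻¹ * y := by rw [← e]; group
    rw [this]
    exact mul_mem (inv_mem ha) (mem_zpowers y)
  have hle : zpowers y ≤ normalizer ((Q : Subgroup G) : Set G) := by
    rw [zpowers_le]
    exact hy
  have haQ : a ∈ (Q : Subgroup G) := by
    apply mem_sylow_of_mem_normalizer Q (hle ha) (k := j)
    rw [← hj]
    exact pow_orderOf_eq_one a
  have h1 : Commute a x := comm_of_isCyclic hQ haQ hx
  have hcw : ∀ c ∈ zpowers y, Commute c w := by
    rintro _ ⟨i, rfl⟩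
    exact hyw.zpow_left i
  have hbo : Nat.Coprime (orderOf b) p :=
    ((Nat.Prime.coprime_iff_not_dvd hpp).2 hb).symm
  have h2 : Commute b x := commute_of_coprime_of_commute hQ Q.isPGroup' hwQ hwo (hle hbz) hbo
    (hcw b hbz) hx
  rw [← e]
  exact h1.mul_left h2

/-- A subgroup containing the cyclic Sylow subgroup `Q` and centralizing a nonidentity element of
it has a normal `p`-complement. -/
theorem normal_complement_of_centralizes (Q : Sylow p G) (hQ : IsCyclic Q) (H : Subgroup G)
    (hQH : (Q : Subgroup G) ≤ H) {u : G} (hu : u ∈ (Q : Subgroup G)) (hu1 : u ≠ 1)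
    (hH : ∀ y ∈ H, y ∈ normalizer ((Q : Subgroup G) : Set G) → Commute y u) :
    HasNormalPComplement p H :=
  burnside_sub H Q hQH fun y hy hN _ hx =>
    commute_of_normalizes_of_commute Q hQ hu hu1 hN (hH y hy hN) hx

/-- The centralizer of a nonidentity element of a cyclic Sylow subgroup has a normal
`p`-complement. -/
theorem centralizer_complement (Q : Sylow p G) (hQ : IsCyclic Q) {u : G}
    (hu : u ∈ (Q : Subgroup G)) (hu1 : u ≠ 1) :
    HasNormalPComplement p ↥(centralizer ({u} : Set G)) := by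
  refine normal_complement_of_centralizes Q hQ _ ?_ hu hu1 ?_
  · intro a ha
    rw [mem_centralizer_singleton_iff]
    exact comm_of_isCyclic hQ ha hu
  · intro y hy _
    exact mem_centralizer_singleton_iff.1 hy

/-- A group with a normal `p`-complement is `p`-solvable. -/
theorem isPSolvable_of_complement {X : Type*} [Group X] [Finite X]
    (h : HasNormalPComplement p X) : IsPSolvable p X := by
  obtain ⟨T, N, hN, hc⟩ := h
  haveI := hN
  have hpp : p.Prime := hp.out
  have hcop : (Nat.card N).Coprime p := by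
    rw [← hc.index_eq_card]
    exact ((Nat.Prime.coprime_iff_not_dvd hpp).2 T.not_dvd_index).symm
  apply isPSolvable_of_normal_of_quotient N (Or.inr hcop)
  apply isPSolvable_of_isPOrCoprime
  left
  have h1 : Nat.card (X ⧸ N) = Nat.card T := by
    rw [← Subgroup.index_eq_card]
    exact hc.symm.index_eq_card
  obtain ⟨k, hk⟩ := IsPGroup.iff_card.1 T.isPGroup'
  exact ⟨k, by rw [h1, hk]⟩

end Local

section Pair

variable {p : ℕ} [hp : Fact p.Prime]

/-- The pair structure, in the group generated by the pair. -/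
theorem pair_abstract {H : Type*} [Group H] [Finite H] {z y : H}
    (hgen : closure ({z, y} : Set H) = ⊤) (hz : z ^ p = 1) (hz1 : z ≠ 1) (hy : y ^ p = 1)
    (hq : IsPGroup p (H ⧸ pPrimeCore p H))
    (hcyc : ∀ T : Subgroup H, IsPGroup p T → IsCyclic T) :
    ∃ j : ℕ, ∀ v ∈ zpowers z, ∃ u' : H, IsPPart p (v * y) u' ∧ IsConj u' (v * z ^ j) := by
  classical
  have hpp : p.Prime := hp.out
  set U := pPrimeCore p H with hU
  have hUn : U.Normal := inferInstance
  let π : H →* H ⧸ U := QuotientGroup.mk' U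
  have hπ : Function.Surjective π := QuotientGroup.mk'_surjective U
  have hker : ∀ a : H, π a = 1 ↔ a ∈ U := fun a => QuotientGroup.eq_one_iff a
  have hinter : ∀ a : H, (∃ k : ℕ, a ^ p ^ k = 1) → a ∈ U → a = 1 := by
    rintro a ⟨k, hk⟩ ha
    have h1 := orderOf_coprime_of_mem_pPrimeCore ha
    have h2 : orderOf a ∣ p ^ k := orderOf_dvd_of_pow_eq_one hk
    have h3 : Nat.Coprime (orderOf a) (p ^ k) := Nat.Coprime.pow_right _ h1
    exact orderOf_eq_one_iff.1 (Nat.eq_one_of_dvd_coprimes h3 (dvd_refl _) h2)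
  have hzo : orderOf z = p := orderOf_eq_prime hz hz1
  have hzg : IsPGroup p (zpowers z) := by
    rw [IsPGroup.iff_card, Nat.card_zpowers, hzo]
    exact ⟨1, (pow_one p).symm⟩
  obtain ⟨S, hS⟩ := hzg.exists_le_sylow
  have hzS : z ∈ (S : Subgroup H) := hS (mem_zpowers z)
  have hScyc : IsCyclic (S : Subgroup H) := hcyc _ S.isPGroup'
  -- `S` maps onto the quotient
  have hsurj : ∀ h : H, ∃ s ∈ (S : Subgroup H), π s = π h := by
    intro h
    let S' : Sylow p (H ⧸ U) := S.mapSurjective hπ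
    have htop : (⊤ : Subgroup (H ⧸ U)) = (S' : Subgroup (H ⧸ U)) :=
      S'.3 (hq.to_subgroup ⊤) le_top
    have h1 : π h ∈ (S' : Subgroup (H ⧸ U)) := by
      rw [← htop]
      exact mem_top _
    obtain ⟨s, hs, hse⟩ := h1
    exact ⟨s, hs, hse⟩
  have hSp : ∀ s ∈ (S : Subgroup H), ∃ k : ℕ, s ^ p ^ k = 1 := by
    intro s hs
    obtain ⟨k, hk⟩ := S.isPGroup' ⟨s, hs⟩
    refine ⟨k, ?_⟩
    have := congrArg Subtype.val hk
    simpa using this
  -- `y`
  obtain ⟨s, hs, hse⟩ := hsurj y
  have hsp : s ^ p = 1 := by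
    apply hinter _ _ _
    · obtain ⟨k, hk⟩ := hSp s hs
      refine ⟨k, ?_⟩
      rw [← pow_mul, mul_comm, pow_mul, hk, one_pow]
    · rw [← hker, map_pow, hse, ← map_pow, hy, map_one]
  have hsz : s ∈ zpowers z := mem_zpowers_of_pow_eq_one hScyc hzS hzo hs hsp
  obtain ⟨j, hj⟩ : ∃ j : ℕ, z ^ j = s := by
    have := (mem_powers_iff_mem_zpowers (x := z) (y := s)).2 hsz
    obtain ⟨j, hj⟩ := this
    exact ⟨j, hj⟩
  refine ⟨j, ?_⟩
  -- the quotient is commutative
  have hall : ∀ h : H, π h ∈ zpowers (π z) := by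
    have hle : closure ({z, y} : Set H) ≤ (zpowers (π z)).comap π := by
      rw [closure_le]
      rintro a (rfl | rfl)
      · exact mem_zpowers _
      · change π _ ∈ zpowers (π z)
        rw [← hse, ← hj, map_pow]
        exact pow_mem (mem_zpowers _) _
    rw [hgen] at hle
    exact fun h => hle (mem_top h)
  have hcomm : ∀ a b : H, π a * π b = π b * π a := by
    intro a b
    obtain ⟨i, hi⟩ := hall a
    obtain ⟨i', hi'⟩ := hall b
    simp only at hi hi'
    rw [← hi, ← hi']
    exact ((Commute.refl _).zpow_zpow _ _).eq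
  intro v hv
  obtain ⟨u', y₀, e, hc, ⟨m, hm⟩, hy₀⟩ := exists_pPart_y (p := p) (v * y)
  refine ⟨u', ⟨y₀, e, hc, ⟨m, hm⟩, hy₀⟩, ?_⟩
  have hy₀U : y₀ ∈ U := mem_core_of_regular hq hy₀
  have h1 : π u' = π (v * z ^ j) := by
    have h2 : π (u' * y₀) = π u' := by
      rw [map_mul, (hker y₀).2 hy₀U, mul_one]
    rw [← h2, e, map_mul, map_mul, hj, hse]
  obtain ⟨ℓ, hℓ⟩ := exists_conj_mem S ⟨m, hm⟩
  have hr : v * z ^ j ∈ (S : Subgroup H) := by
    apply mul_mem (hS hv)
    exact pow_mem hzS _
  have h3 : π (ℓ * u' * ℓ⁻¹) = π (v * z ^ j) := by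
    rw [map_mul, map_mul, hcomm ℓ u', map_inv, mul_assoc, mul_inv_cancel, mul_one, h1]
  have h4 : (ℓ * u' * ℓ⁻¹) * (v * z ^ j)⁻¹ = 1 := by
    apply hinter
    · exact hSp _ (mul_mem hℓ (inv_mem hr))
    · rw [← hker, map_mul, map_inv, h3, mul_inv_cancel]
  rw [isConj_iff]
  exact ⟨ℓ, mul_inv_eq_one.1 h4⟩

end Pair

section Pair2

variable {G : Type u} [Group G] [Finite G] {p : ℕ} [hp : Fact p.Prime]

/-- The pair structure in `G`: for `z` of order `p` and `y` of order `p` there is `j` such that the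
`p`-part of `v y` is conjugate to `v z ^ j` for all powers `v` of `z`. -/
theorem pair_structure (P : Sylow p G) (hP : IsCyclic P) {z y : G} (hzo : orderOf z = p)
    (hyo : orderOf y = p) (hS : IsPSolvable p ↥(closure ({z, y} : Set G))) :
    ∃ j : ℕ, ∀ v ∈ zpowers z, ∃ u' : G, IsPPart p (v * y) u' ∧ IsConj u' (v * z ^ j) := by
  classical
  have hpp : p.Prime := hp.out
  have hzp : z ^ p = 1 := by rw [← hzo]; exact pow_orderOf_eq_one z
  have hyp : y ^ p = 1 := by rw [← hyo]; exact pow_orderOf_eq_one y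
  set L := closure ({z, y} : Set G) with hL
  have hz' : z ∈ L := subset_closure (by simp)
  have hy' : y ∈ L := subset_closure (by simp)
  let a : L := ⟨z, hz'⟩
  let b : L := ⟨y, hy'⟩
  have hgen : closure ({a, b} : Set L) = ⊤ := by
    have h1 : closure (((↑) : L → G) ⁻¹' ({z, y} : Set G)) = ⊤ := closure_closure_coe_preimage
    rw [eq_top_iff, ← h1]
    apply Subgroup.closure_mono
    intro c hc
    rcases hc with hc | hc
    · left
      exact Subtype.ext hc
    · right
      exact Subtype.ext hc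
  have hap : a ^ p = 1 := Subtype.ext hzp
  have hbp : b ^ p = 1 := Subtype.ext hyp
  have ha1 : a ≠ 1 := by
    intro h
    have h1 : z = 1 := congrArg Subtype.val h
    rw [h1, orderOf_one] at hzo
    exact hpp.one_lt.ne hzo
  have hcyc : ∀ T : Subgroup L, IsPGroup p T → IsCyclic T := by
    intro T hT
    have hT' : IsPGroup p (T.map L.subtype) := hT.map _
    have h1 := isCyclic_of_isPGroup P hP _ hT'
    let f : T →* (T.map L.subtype) :=
      { toFun := fun c => ⟨c, ⟨c, c.2, rfl⟩⟩
        map_one' := rfl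
        map_mul' := fun _ _ => rfl }
    refine isCyclic_of_injective f ?_
    intro c d hcd
    have := congrArg Subtype.val hcd
    exact Subtype.ext (Subtype.ext this)
  have hq : IsPGroup p (L ⧸ pPrimeCore p L) := by
    apply isPGroup_quot hS
    · intro T hT c hc d hd
      have hT' : IsPGroup p (T.map L.subtype) := hT.map _
      apply Subtype.ext
      exact comm_of_isPGroup P hP _ hT' _ ⟨c, hc, rfl⟩ _ ⟨d, hd, rfl⟩
    · rw [eq_top_iff, ← hgen]
      apply Subgroup.closure_mono
      rintro c (rfl | rfl)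
      · exact ⟨1, by rw [pow_one]; exact hap⟩
      · exact ⟨1, by rw [pow_one]; exact hbp⟩
  obtain ⟨j, hj⟩ := pair_abstract hgen hap ha1 hbp hq hcyc
  refine ⟨j, ?_⟩
  intro v hv
  obtain ⟨i, hi⟩ := hv
  simp only at hi
  have hvL : (a ^ i) ∈ zpowers a := ⟨i, rfl⟩
  obtain ⟨u', ⟨w, e, hc, ⟨m, hm⟩, hw⟩, hconj⟩ := hj _ hvL
  have hvv : ((a ^ i : L) : G) = v := by
    rw [← hi]
    simp [a]
  refine ⟨u', ⟨w, ?_, ?_, ⟨m, ?_⟩, ?_⟩, ?_⟩
  · have := congrArg Subtype.val e
    simpa [b, hvv] using this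
  · have := congrArg Subtype.val hc.eq
    exact this
  · rw [← hm]
    exact Subgroup.orderOf_coe u'
  · rw [Subgroup.orderOf_coe]
    exact hw
  · obtain ⟨c, hc'⟩ := isConj_iff.1 hconj
    rw [isConj_iff]
    refine ⟨c, ?_⟩
    have := congrArg Subtype.val hc'
    simpa [a, hvv] using this

end Pair2

end Cfsg.Agent.Lib.CycPairs.Basic
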