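import Cfsg.Agent.Lib.CycPairs.Omega
import Cfsg.Agent.Lib.ConjFam.Basic

/-!
# Cyclic Sylow subgroups: Fourier analysis on the Sylow subgroup
-/

set_option autoImplicit false
set_option linter.unusedSectionVars false
set_option linter.style.haveILetI false

namespace Cfsg.Agent.Lib.CycPairs.Fourier

open Cfsg Subgroup
open Cfsg.Agent.Lib.CyclicSylow Cfsg.Agent.Lib.CyclicSylow.Basic
open Cfsg.Agent.Lib.Core.Basic Cfsg.Agent.Lib.Core.PSolvable
open Cfsg.Agent.Lib.StrongSec.PairSolv Cfsg.Agent.Lib.StrongSec.EABlock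
open Cfsg.Agent.Lib.Blocks.PPart
open Cfsg.Agent.Lib.Blocks.Central Cfsg.Agent.Lib.Blocks.Weak Cfsg.Agent.Lib.Blocks.Third
open Cfsg.Agent.Lib.Blocks.General
open Cfsg.Agent.Lib.ZStar.Section
open Cfsg.Agent.Lib.CycPairs.Basic Cfsg.Agent.Lib.CycPairs.Sec Cfsg.Agent.Lib.CycPairs.Omega
open scoped ComplexConjugate

universe u

/-- The vector lemma: five vectors at mutual squared distance `2` cannot split `3 + 2` at a
coordinate. -/
theorem vec5 {ι : Type*} [DecidableEq ι] (B : Finset ι) (a₁ a₂ b₁ b₂ d : ι → ℝ) {x₀ : ι}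
    (hx : x₀ ∈ B) {β ε : ℝ} (hε : ε ^ 2 = 1)
    (ha₁ : a₁ x₀ = β + ε) (ha₂ : a₂ x₀ = β + ε) (hd : d x₀ = β + ε)
    (hb₁ : b₁ x₀ = β) (hb₂ : b₂ x₀ = β)
    (h12 : ∑ x ∈ B, (a₁ x - a₂ x) ^ 2 = 2)
    (h13 : ∑ x ∈ B, (a₁ x - b₁ x) ^ 2 = 2)
    (h14 : ∑ x ∈ B, (a₁ x - b₂ x) ^ 2 = 2)
    (h15 : ∑ x ∈ B, (a₁ x - d x) ^ 2 = 2)
    (h23 : ∑ x ∈ B, (a₂ x - b₁ x) ^ 2 = 2)
    (h24 : ∑ x ∈ B, (a₂ x - b₂ x) ^ 2 = 2)
    (h25 : ∑ x ∈ B, (a₂ x - d x) ^ 2 = 2)
    (h34 : ∑ x ∈ B, (b₁ x - b₂ x) ^ 2 = 2)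
    (h35 : ∑ x ∈ B, (b₁ x - d x) ^ 2 = 2)
    (h45 : ∑ x ∈ B, (b₂ x - d x) ^ 2 = 2) : False := by
  have key : ∀ a : ι → ℝ, a x₀ = β + ε → ∑ x ∈ B, (a x - b₁ x) ^ 2 = 2 →
      ∑ x ∈ B, (a x - b₂ x) ^ 2 = 2 → ∑ x ∈ B, (a x - d x) ^ 2 = 2 →
      ∀ x ∈ B, x ≠ x₀ → a x - b₁ x - b₂ x + d x = 0 := by
    intro a ha h1 h2 h3
    have hsum : ∑ x ∈ B, (a x - b₁ x - b₂ x + d x) ^ 2 = 4 := by
      have e : ∀ x ∈ B, (a x - b₁ x - b₂ x + d x) ^ 2 = (a x - b₁ x) ^ 2 + (b₂ x - d x) ^ 2 +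
          (a x - b₂ x) ^ 2 + (b₁ x - d x) ^ 2 - (a x - d x) ^ 2 - (b₁ x - b₂ x) ^ 2 := by
        intro x _
        ring
      rw [Finset.sum_congr rfl e, Finset.sum_sub_distrib, Finset.sum_sub_distrib,
        Finset.sum_add_distrib, Finset.sum_add_distrib, Finset.sum_add_distrib, h1, h2, h3, h34, h35,
        h45]
      norm_num
    rw [← Finset.add_sum_erase B _ hx] at hsum
    have hx₀ : (a x₀ - b₁ x₀ - b₂ x₀ + d x₀) ^ 2 = 4 := by
      rw [ha, hb₁, hb₂, hd]
      nlinarith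
    rw [hx₀] at hsum
    have h0 : ∑ x ∈ B.erase x₀, (a x - b₁ x - b₂ x + d x) ^ 2 = 0 := by linarith
    intro x hxB hne
    have h1 := (Finset.sum_eq_zero_iff_of_nonneg (fun _ _ => sq_nonneg _)).1 h0 x
      (Finset.mem_erase.2 ⟨hne, hxB⟩)
    exact pow_eq_zero_iff (two_ne_zero) |>.1 h1
  have k1 := key a₁ ha₁ h13 h14 h15
  have k2 := key a₂ ha₂ h23 h24 h25
  have h0 : ∑ x ∈ B, (a₁ x - a₂ x) ^ 2 = 0 := by
    apply Finset.sum_eq_zero
    intro x hxB
    by_cases hxx : x = x₀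
    · subst hxx
      rw [ha₁, ha₂]
      ring
    · have e1 := k1 x hxB hxx
      have e2 := k2 x hxB hxx
      have : a₁ x - a₂ x = 0 := by linarith
      rw [this]
      ring
  rw [h12] at h0
  norm_num at h0

section PW

variable {G : Type u} [Group G] {g₀ : G} {n : ℕ} [NeZero n]

/-- The parametrization of a cyclic group by `ZMod n`. -/
def pw (g₀ : G) (n : ℕ) (i : ZMod n) : G := g₀ ^ i.val

variable (hn : orderOf g₀ = n)

include hn in
theorem pow_mod_n (a : ℕ) : g₀ ^ (a % n) = g₀ ^ a := by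
  rw [← hn]
  exact pow_mod_orderOf g₀ a

include hn in
theorem pw_natCast (a : ℕ) : pw g₀ n (a : ZMod n) = g₀ ^ a := by
  unfold pw
  rw [ZMod.val_natCast, pow_mod_n hn]

theorem pw_zero : pw g₀ n 0 = 1 := by
  unfold pw
  rw [ZMod.val_zero, pow_zero]

include hn in
theorem pw_add (i j : ZMod n) : pw g₀ n (i + j) = pw g₀ n i * pw g₀ n j := by
  unfold pw
  rw [ZMod.val_add, ← pow_add, pow_mod_n hn]

include hn in
theorem pw_mul (t j : ZMod n) : pw g₀ n (t * j) = pw g₀ n j ^ t.val := by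
  unfold pw
  rw [ZMod.val_mul, ← pow_mul, mul_comm t.val, pow_mod_n hn]

include hn in
theorem pw_injective : Function.Injective (pw g₀ n) := by
  intro i j h
  unfold pw at h
  apply ZMod.val_injective
  have hi : i.val < orderOf g₀ := by
    rw [hn]
    exact ZMod.val_lt i
  have hj : j.val < orderOf g₀ := by
    rw [hn]
    exact ZMod.val_lt j
  exact pow_injOn_Iio_orderOf hi hj h

include hn in
theorem pw_ne_one {i : ZMod n} (hi : i ≠ 0) : pw g₀ n i ≠ 1 := by
  intro h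
  apply hi
  apply pw_injective hn
  rw [h, pw_zero]

include hn in
theorem exists_pw [Finite G] {x : G} (hx : x ∈ zpowers g₀) : ∃ i : ZMod n, pw g₀ n i = x := by
  have := (mem_powers_iff_mem_zpowers (x := g₀) (y := x)).2 hx
  obtain ⟨a, ha⟩ := this
  exact ⟨(a : ZMod n), by rw [pw_natCast hn]; exact ha⟩

theorem pw_mem (i : ZMod n) : pw g₀ n i ∈ zpowers g₀ :=
  pow_mem (mem_zpowers g₀) _

/-- The standard character. -/
noncomputable abbrev psi (n : ℕ) [NeZero n] : AddChar (ZMod n) ℂ := ZMod.stdAddChar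

/-- Orthogonality. -/
theorem sum_psi (b : ZMod n) :
    ∑ i : ZMod n, psi n (i * b) = if b = 0 then (n : ℂ) else 0 := by
  classical
  have := AddChar.sum_mulShift b (ZMod.isPrimitive_stdAddChar n)
  rw [ZMod.card] at this
  rw [this]
  split_ifs <;> simp

/-- Every `n`-th root of unity is a value of the standard character. -/
theorem exists_psi_eq {μ : ℂ} (hμ : μ ^ n = 1) : ∃ k : ZMod n, psi n k = μ := by
  have hn0 : n ≠ 0 := NeZero.ne n
  have h1 : psi n 1 = Complex.exp (2 * Real.pi * Complex.I / n) := by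
    have := ZMod.stdAddChar_coe (N := n) 1
    simpa using this
  have hprim : IsPrimitiveRoot (psi n 1) n := by
    rw [h1]
    exact Complex.isPrimitiveRoot_exp n hn0
  obtain ⟨i, -, hi⟩ := hprim.eq_pow_of_pow_eq_one hμ
  refine ⟨(i : ZMod n), ?_⟩
  rw [← hi, ← AddChar.map_nsmul_eq_pow]
  simp

end PW

section Coef

variable {G : Type u} [Group G] [Finite G] {g₀ : G} {n : ℕ} [NeZero n]

/-- **The multiplicities of the linear characters of the cyclic group in a character**. -/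
theorem exists_coef (hn : orderOf g₀ = n) (χ : IrrCharacter G) :
    ∃ c : ZMod n → ℕ, ∀ i : ZMod n, (χ : G → ℂ) (pw g₀ n i) =
      ∑ k : ZMod n, (c k : ℂ) * psi n (k * i) := by
  classical
  obtain ⟨d, ρ, -, hρ⟩ := χ.2
  obtain ⟨b, μ, h1, h2, -, -⟩ := Cfsg.Agent.Lib.Char.Ortho.exists_eigenbasis_of_rep ρ g₀
  rw [hn] at h2
  choose κ hκ using fun x => exists_psi_eq (hμ := h2 x)
  refine ⟨fun k => (Finset.univ.filter fun x => κ x = k).card, fun i => ?_⟩
  have hpow : ∀ (a : ℕ) (x : Fin (Module.finrank ℂ (Fin d → ℂ))),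
      ρ (g₀ ^ a) (b x) = (μ x ^ a) • b x := by
    intro a x
    induction a with
    | zero => simp
    | succ a ih =>
      rw [pow_succ, map_mul, Module.End.mul_apply, h1, map_smul, ih, smul_smul, pow_succ]
      ring_nf
  have h3 : (χ : G → ℂ) (pw g₀ n i) = ∑ x, μ x ^ i.val := by
    rw [← hρ]
    exact Cfsg.Agent.Lib.Char.Ortho.trace_eq_sum_of_eigenbasis (ρ (g₀ ^ i.val)) b _ (hpow i.val)
  have h4 : ∀ x, μ x ^ i.val = psi n (κ x * i) := by
    intro x
    rw [← hκ x, ← AddChar.map_nsmul_eq_pow]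
    congr 1
    rw [nsmul_eq_mul, ZMod.natCast_zmod_val, mul_comm]
  rw [h3]
  simp_rw [h4]
  rw [← Finset.sum_fiberwise Finset.univ κ]
  refine Finset.sum_congr rfl fun k _ => ?_
  rw [Finset.sum_congr rfl (fun x hx => by rw [(Finset.mem_filter.1 hx).2]), Finset.sum_const,
    nsmul_eq_mul]

/-- The multiplicities. -/
noncomputable def coef (hn : orderOf g₀ = n) (χ : IrrCharacter G) : ZMod n → ℕ :=
  Classical.choose (exists_coef hn χ)

theorem coef_spec (hn : orderOf g₀ = n) (χ : IrrCharacter G) (i : ZMod n) :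
    (χ : G → ℂ) (pw g₀ n i) = ∑ k : ZMod n, (coef hn χ k : ℂ) * psi n (k * i) :=
  Classical.choose_spec (exists_coef hn χ) i

/-- **Fourier inversion**. -/
theorem coef_inv (hn : orderOf g₀ = n) (χ : IrrCharacter G) (l : ZMod n) :
    ∑ i : ZMod n, (χ : G → ℂ) (pw g₀ n i) * psi n (-(l * i)) = (n : ℂ) * coef hn χ l := by
  classical
  simp_rw [coef_spec hn χ, Finset.sum_mul]
  rw [Finset.sum_comm]
  have h1 : ∀ k : ZMod n, ∑ i : ZMod n, (coef hn χ k : ℂ) * psi n (k * i) * psi n (-(l * i)) =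
      (coef hn χ k : ℂ) * (if k - l = 0 then (n : ℂ) else 0) := by
    intro k
    rw [← sum_psi (k - l), Finset.mul_sum]
    refine Finset.sum_congr rfl fun i _ => ?_
    rw [mul_assoc, ← AddChar.map_add_eq_mul]
    congr 2
    ring
  simp_rw [h1]
  rw [Finset.sum_eq_single l]
  · simp
    ring
  · intro k _ hk
    rw [if_neg (sub_ne_zero.2 hk), mul_zero]
  · intro h
    exact absurd (Finset.mem_univ _) h

end Coef

section Fus

variable {G : Type u} [Group G] [Fintype G] [Fintype (IrrCharacter G)] {p : ℕ} [hp : Fact p.Prime]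
  {M : Ideal AlgInt} {g₀ : G} {n : ℕ} [NeZero n]

open Classical in
/-- The multipliers of the generator coming from fusion. -/
noncomputable def Emul (g₀ : G) (n : ℕ) [NeZero n] : Finset (ZMod n) :=
  Finset.univ.filter fun t : ZMod n => IsConj (pw g₀ n t) g₀

theorem mem_emul {t : ZMod n} : t ∈ Emul g₀ n ↔ IsConj (pw g₀ n t) g₀ := by
  classical
  simp [Emul]

theorem exists_conj_of_mem {t : ZMod n} (ht : t ∈ Emul g₀ n) : ∃ w : G, w * g₀ * w⁻¹ = pw g₀ n t := by
  have h := (mem_emul.1 ht).symm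
  exact isConj_iff.1 h

variable (hn : orderOf g₀ = n)

include hn in
theorem conj_pw {w : G} {t : ZMod n} (hw : w * g₀ * w⁻¹ = pw g₀ n t) (j : ZMod n) :
    w * pw g₀ n j * w⁻¹ = pw g₀ n (t * j) := by
  rw [mul_comm t j, pw_mul hn, ← hw]
  unfold pw
  rw [conj_pow]

include hn in
theorem one_mem_emul : (1 : ZMod n) ∈ Emul g₀ n := by
  rw [mem_emul]
  have h := pw_natCast hn 1
  rw [Nat.cast_one, pow_one] at h
  rw [h]

include hn in
theorem emul_conj {t : ZMod n} (ht : t ∈ Emul g₀ n) (j : ZMod n) :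
    IsConj (pw g₀ n (t * j)) (pw g₀ n j) := by
  obtain ⟨w, hw⟩ := exists_conj_of_mem ht
  rw [isConj_comm, isConj_iff]
  exact ⟨w, conj_pw hn hw j⟩

variable (P : Sylow p G) (hP : IsCyclic P) (hg : (P : Subgroup G) = zpowers g₀)

include hn hg in
theorem normalizes_of {w : G} {t : ZMod n} (hw : w * g₀ * w⁻¹ = pw g₀ n t) :
    w ∈ normalizer ((P : Subgroup G) : Set G) := by
  apply mem_normalizer_of_conj_mem
  intro x hx
  rw [hg] at hx ⊢
  obtain ⟨i, rfl⟩ := exists_pw hn hx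
  rw [conj_pw hn hw]
  exact pw_mem _

include hn hg hP in
theorem emul_inj {t t' j : ZMod n} (ht : t ∈ Emul g₀ n) (ht' : t' ∈ Emul g₀ n) (hj : j ≠ 0)
    (h : t * j = t' * j) : t = t' := by
  obtain ⟨w, hw⟩ := exists_conj_of_mem ht
  obtain ⟨w', hw'⟩ := exists_conj_of_mem ht'
  have hN : w'⁻¹ * w ∈ normalizer ((P : Subgroup G) : Set G) :=
    mul_mem (inv_mem (normalizes_of hn P hg hw')) (normalizes_of hn P hg hw)
  have h1 : w * pw g₀ n j * w⁻¹ = w' * pw g₀ n j * w'⁻¹ := by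
    rw [conj_pw hn hw, conj_pw hn hw', h]
  have hc : Commute (w'⁻¹ * w) (pw g₀ n j) := by
    change w'⁻¹ * w * pw g₀ n j = pw g₀ n j * (w'⁻¹ * w)
    have h2 : w * pw g₀ n j = w' * pw g₀ n j * w'⁻¹ * w := by
      rw [← h1]
      group
    rw [mul_assoc, h2]
    group
  have hmem : ∀ i : ZMod n, pw g₀ n i ∈ (P : Subgroup G) := fun i => by
    rw [hg]
    exact pw_mem i
  have h3 : Commute (w'⁻¹ * w) g₀ :=
    commute_of_normalizes_of_commute P hP (hmem j) (pw_ne_one hn hj) hN hc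
      (by rw [hg]; exact mem_zpowers g₀)
  apply pw_injective hn
  rw [← hw, ← hw']
  have h4 : w'⁻¹ * w * g₀ = g₀ * (w'⁻¹ * w) := h3
  have h5 : w * g₀ = w' * g₀ * w'⁻¹ * w := by
    calc w * g₀ = w' * (w'⁻¹ * w * g₀) := by group
      _ = w' * (g₀ * (w'⁻¹ * w)) := by rw [h4]
      _ = w' * g₀ * w'⁻¹ * w := by group
  rw [h5]
  group

include hn hg hP in
theorem emul_fusion {i j : ZMod n} (hc : IsConj (pw g₀ n i) (pw g₀ n j)) :
    ∃ t ∈ Emul g₀ n, i = t * j := by
  obtain ⟨c, hc⟩ := isConj_iff.1 hc.symm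
  have hmem : ∀ i : ZMod n, pw g₀ n i ∈ (P : Subgroup G) := fun i => by
    rw [hg]
    exact pw_mem i
  set C := centralizer ({pw g₀ n i} : Set G) with hC
  have hPC : (P : Subgroup G) ≤ C := by
    intro a ha
    rw [hC, mem_centralizer_singleton_iff]
    exact comm_of_isCyclic hP ha (hmem i)
  have hQC : Cfsg.Agent.Lib.ConjFam.Basic.cj c (P : Subgroup G) ≤ C := by
    rintro _ ⟨a, ha, rfl⟩
    rw [hC, mem_centralizer_singleton_iff, ← hc]
    change c * a * c⁻¹ * (c * pw g₀ n j * c⁻¹) = c * pw g₀ n j * c⁻¹ * (c * a * c⁻¹)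
    have h0 : a * pw g₀ n j = pw g₀ n j * a := comm_of_isCyclic hP ha (hmem j)
    calc c * a * c⁻¹ * (c * pw g₀ n j * c⁻¹) = c * (a * pw g₀ n j) * c⁻¹ := by group
      _ = c * (pw g₀ n j * a) * c⁻¹ := by rw [h0]
      _ = _ := by group
  have hi : ¬ p ∣ (P : Subgroup G).relIndex C := by
    intro h
    apply P.not_dvd_index
    rw [← Subgroup.relIndex_mul_index hPC]
    exact Dvd.dvd.mul_right h _
  have hQp : IsPGroup p (Cfsg.Agent.Lib.ConjFam.Basic.cj c (P : Subgroup G)) :=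
    P.isPGroup'.map _
  obtain ⟨d, hd, hdle⟩ := Cfsg.Agent.Lib.ConjFam.Basic.exists_conj_le_of_sylowIn C (P : Subgroup G) _
    hPC P.isPGroup' hi hQC hQp
  -- `w = d c`
  have hg₀ : g₀ ∈ (P : Subgroup G) := by
    rw [hg]
    exact mem_zpowers g₀
  have hwg : (d * c) * g₀ * (d * c)⁻¹ ∈ (P : Subgroup G) := by
    apply hdle
    refine ⟨c * g₀ * c⁻¹, ⟨g₀, hg₀, rfl⟩, ?_⟩
    change d * (c * g₀ * c⁻¹) * d⁻¹ = _
    group
  have hwg' : (d * c) * g₀ * (d * c)⁻¹ ∈ zpowers g₀ := by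
    rw [← hg]
    exact hwg
  obtain ⟨t, ht⟩ := exists_pw hn hwg'
  refine ⟨t, ?_, ?_⟩
  · rw [mem_emul, isConj_comm, isConj_iff]
    exact ⟨d * c, ht.symm⟩
  · apply pw_injective hn
    rw [← conj_pw hn ht.symm]
    have hd' : d * pw g₀ n i = pw g₀ n i * d := mem_centralizer_singleton_iff.1 hd
    calc pw g₀ n i = d * pw g₀ n i * d⁻¹ := by rw [hd']; group
      _ = d * (c * pw g₀ n j * c⁻¹) * d⁻¹ := by rw [hc]
      _ = _ := by group

include hn hg in
/-- The order of the Sylow subgroup. -/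
theorem card_P : Nat.card (P : Subgroup G) = n := by
  rw [hg, Nat.card_zpowers, hn]

include hn hg hP in
/-- The section function on `P`. -/
theorem secSum_pw (hM : IsPModular p M) {i j : ZMod n} (hj : j ≠ 0)
    [Decidable (IsConj (pw g₀ n i) (pw g₀ n j))] :
    secSum M (pw g₀ n j) (pw g₀ n i) = if IsConj (pw g₀ n i) (pw g₀ n j) then (n : ℂ) else 0 := by
  have hmem : ∀ i : ZMod n, pw g₀ n i ∈ (P : Subgroup G) := fun i => by
    rw [hg]
    exact pw_mem i
  rw [secSum_of_part hM P hP (hmem j) (pw_ne_one hn hj) (isPPart_self' P (hmem i)),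
    card_P hn P hg]

include hn hg in
theorem secSum_zero_pw (hM : IsPModular p M) {i : ZMod n} (hi : i ≠ 0) :
    secSum M (1 : G) (pw g₀ n i) = 0 := by
  have hmem : ∀ i : ZMod n, pw g₀ n i ∈ (P : Subgroup G) := fun i => by
    rw [hg]
    exact pw_mem i
  refine secSum_of_not_conj hM P (one_mem _) (isPPart_self' P (hmem i)) ?_
  intro h
  exact pw_ne_one hn hi (isConj_one_left.1 h)

/-- The counting numbers. -/
noncomputable def cnt (g₀ : G) (n : ℕ) [NeZero n] (k l : ZMod n) : ℕ := by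
  classical
  exact ((Emul g₀ n).filter fun t => k * t = l).card

include hn hg hP in
/-- The sum over the elements conjugate to `pw j`. -/
theorem sum_conj_eq (f : ZMod n → ℂ) {j : ZMod n} (hj : j ≠ 0)
    [∀ i : ZMod n, Decidable (IsConj (pw g₀ n i) (pw g₀ n j))] :
    ∑ i : ZMod n, (if IsConj (pw g₀ n i) (pw g₀ n j) then f i else 0) =
      ∑ t ∈ Emul g₀ n, f (t * j) := by
  classical
  rw [← Finset.sum_filter]
  have himg : (Finset.univ.filter fun i : ZMod n => IsConj (pw g₀ n i) (pw g₀ n j)) =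
      (Emul g₀ n).image (fun t => t * j) := by
    ext i
    simp only [Finset.mem_filter, Finset.mem_univ, true_and, Finset.mem_image]
    constructor
    · intro h
      obtain ⟨t, ht, e⟩ := emul_fusion hn P hP hg h
      exact ⟨t, ht, e.symm⟩
    · rintro ⟨t, ht, rfl⟩
      exact emul_conj hn ht j
  rw [himg, Finset.sum_image]
  intro t ht t' ht' e
  exact emul_inj hn P hP hg ht ht' hj e

include hn hg hP in
/-- **The Gram matrix of the multiplicity vectors**. -/
theorem gram_coef (hM : IsPModular p M) (k l : ZMod n) :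
    (n : ℂ) ^ 2 * ∑ χ ∈ blk M G, (coef hn χ k : ℂ) * (coef hn χ l : ℂ) =
      secSum M (1 : G) 1 + (n : ℂ) ^ 2 * cnt g₀ n k l - (n : ℂ) * (Emul g₀ n).card := by
  classical
  have hn0 : (n : ℂ) ≠ 0 := Nat.cast_ne_zero.2 (NeZero.ne n)
  -- expansion
  have h1 : ∀ χ : IrrCharacter G, (n : ℂ) ^ 2 * ((coef hn χ k : ℂ) * (coef hn χ l : ℂ)) =
      ∑ j : ZMod n, ∑ i : ZMod n, psi n (l * j + -(k * i)) *
        ((χ : G → ℂ) (pw g₀ n i) * conj ((χ : G → ℂ) (pw g₀ n j))) := by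
    intro χ
    have e1 := coef_inv hn χ k
    have e2 := congrArg conj (coef_inv hn χ l)
    rw [map_mul, Complex.conj_natCast, Complex.conj_natCast, map_sum] at e2
    have e3 : (n : ℂ) ^ 2 * ((coef hn χ k : ℂ) * (coef hn χ l : ℂ)) =
        ((n : ℂ) * coef hn χ k) * ((n : ℂ) * coef hn χ l) := by ring
    rw [e3, ← e1, ← e2, Finset.sum_mul_sum, Finset.sum_comm]
    refine Finset.sum_congr rfl fun j _ => Finset.sum_congr rfl fun i _ => ?_
    rw [map_mul, ← AddChar.map_neg_eq_conj, neg_neg, AddChar.map_add_eq_mul]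
    ring
  -- the sum over the block
  have h2 : (n : ℂ) ^ 2 * ∑ χ ∈ blk M G, (coef hn χ k : ℂ) * (coef hn χ l : ℂ) =
      ∑ j : ZMod n, ∑ i : ZMod n, psi n (l * j + -(k * i)) *
        secSum M (pw g₀ n j) (pw g₀ n i) := by
    rw [Finset.mul_sum, Finset.sum_congr rfl (fun χ _ => h1 χ), Finset.sum_comm]
    refine Finset.sum_congr rfl fun j _ => ?_
    rw [Finset.sum_comm]
    refine Finset.sum_congr rfl fun i _ => ?_
    rw [secSum_eq_sum, Finset.mul_sum]
  rw [h2, ← Finset.add_sum_erase Finset.univ _ (Finset.mem_univ (0 : ZMod n))]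
  -- the term `j = 0`
  have h3 : ∑ i : ZMod n, psi n (l * 0 + -(k * i)) * secSum M (pw g₀ n 0) (pw g₀ n i) =
      secSum M (1 : G) 1 := by
    rw [Finset.sum_eq_single (0 : ZMod n)]
    · simp [pw_zero]
    · intro i _ hi
      rw [pw_zero, secSum_zero_pw hn P hg hM hi, mul_zero]
    · intro h
      exact absurd (Finset.mem_univ _) h
  rw [h3, add_sub_assoc]
  congr 1
  -- the terms `j ≠ 0`
  have h4 : ∀ j ∈ (Finset.univ : Finset (ZMod n)).erase 0, ∑ i : ZMod n,
      psi n (l * j + -(k * i)) * secSum M (pw g₀ n j) (pw g₀ n i) =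
      (n : ℂ) * ∑ t ∈ Emul g₀ n, psi n (j * (l - k * t)) := by
    intro j hj
    have hj0 : j ≠ 0 := Finset.ne_of_mem_erase hj
    have e : ∀ i : ZMod n, psi n (l * j + -(k * i)) * secSum M (pw g₀ n j) (pw g₀ n i) =
        if IsConj (pw g₀ n i) (pw g₀ n j) then (n : ℂ) * psi n (l * j + -(k * i)) else 0 := by
      intro i
      rw [secSum_pw hn P hP hg hM hj0]
      split_ifs
      · ring
      · ring
    simp_rw [e]
    rw [sum_conj_eq hn P hP hg (fun i => (n : ℂ) * psi n (l * j + -(k * i))) hj0, Finset.mul_sum]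
    refine Finset.sum_congr rfl fun t _ => ?_
    congr 2
    ring
  rw [Finset.sum_congr rfl h4, ← Finset.mul_sum, Finset.sum_comm]
  have h5 : ∀ t ∈ Emul g₀ n, ∑ j ∈ (Finset.univ : Finset (ZMod n)).erase 0,
      psi n (j * (l - k * t)) = (if k * t = l then (n : ℂ) else 0) - 1 := by
    intro t _
    have e := sum_psi (n := n) (l - k * t)
    rw [← Finset.add_sum_erase Finset.univ _ (Finset.mem_univ (0 : ZMod n))] at e
    have e2 : psi n (0 * (l - k * t)) = 1 := by simp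
    rw [e2] at e
    have e3 : (if l - k * t = 0 then (n : ℂ) else 0) = if k * t = l then (n : ℂ) else 0 := by
      by_cases h : k * t = l
      · rw [if_pos h, if_pos (by rw [h, sub_self])]
      · rw [if_neg h, if_neg (fun h' => h (sub_eq_zero.1 h').symm)]
    rw [e3] at e
    rw [← e]
    ring
  rw [Finset.sum_congr rfl h5, Finset.sum_sub_distrib, Finset.sum_const, nsmul_one,
    ← Finset.sum_filter, Finset.sum_const, nsmul_eq_mul]
  unfold cnt
  push_cast
  ring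

include hn hg hP in
/-- **The distances between the multiplicity vectors**. -/
theorem dist_coef (hM : IsPModular p M) (k l : ZMod n) :
    ∑ χ ∈ blk M G, ((coef hn χ k : ℝ) - (coef hn χ l : ℝ)) ^ 2 =
      (cnt g₀ n k k : ℝ) + cnt g₀ n l l - 2 * cnt g₀ n k l := by
  have hn0 : (n : ℂ) ≠ 0 := Nat.cast_ne_zero.2 (NeZero.ne n)
  apply Complex.ofReal_injective
  push_cast
  have h1 := gram_coef hn P hP hg hM k k
  have h2 := gram_coef hn P hP hg hM l l
  have h3 := gram_coef hn P hP hg hM k l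
  have e : ∀ χ ∈ blk M G, ((coef hn χ k : ℂ) - (coef hn χ l : ℂ)) ^ 2 =
      (coef hn χ k : ℂ) * coef hn χ k + (coef hn χ l : ℂ) * coef hn χ l -
        2 * ((coef hn χ k : ℂ) * coef hn χ l) := by
    intro χ _
    ring
  rw [Finset.sum_congr rfl e, Finset.sum_sub_distrib, Finset.sum_add_distrib, ← Finset.mul_sum]
  apply mul_left_cancel₀ (pow_ne_zero 2 hn0)
  rw [mul_sub, mul_add, h1, h2]
  have e2 : (n : ℂ) ^ 2 * (2 * ∑ χ ∈ blk M G, (coef hn χ k : ℂ) * coef hn χ l) =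
      2 * ((n : ℂ) ^ 2 * ∑ χ ∈ blk M G, (coef hn χ k : ℂ) * coef hn χ l) := by ring
  rw [e2, h3]
  ring

/-- The relation on `ZMod n` given by the multipliers. -/
def Rel (g₀ : G) (n : ℕ) [NeZero n] (k l : ZMod n) : Prop := ∃ t ∈ Emul g₀ n, k * t = l

include hn hg hP in
theorem cnt_self {k : ZMod n} (hk : k ≠ 0) : cnt g₀ n k k = 1 := by
  classical
  unfold cnt
  rw [Finset.card_eq_one]
  refine ⟨1, ?_⟩
  ext t
  simp only [Finset.mem_filter, Finset.mem_singleton]
  constructor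
  · rintro ⟨ht, e⟩
    apply emul_inj hn P hP hg ht (one_mem_emul hn) hk
    rw [mul_comm, e, one_mul]
  · rintro rfl
    exact ⟨one_mem_emul hn, mul_one k⟩

theorem cnt_zero_zero : cnt g₀ n 0 0 = (Emul g₀ n).card := by
  classical
  unfold cnt
  rw [Finset.filter_true_of_mem]
  intro t _
  rw [zero_mul]

theorem cnt_zero_ne {l : ZMod n} (hl : l ≠ 0) : cnt g₀ n 0 l = 0 := by
  classical
  unfold cnt
  rw [Finset.card_eq_zero, Finset.filter_eq_empty_iff]
  intro t _
  rw [zero_mul]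
  exact hl.symm

theorem cnt_not {k l : ZMod n} (h : ¬ Rel g₀ n k l) : cnt g₀ n k l = 0 := by
  classical
  unfold cnt
  rw [Finset.card_eq_zero, Finset.filter_eq_empty_iff]
  intro t ht e
  exact h ⟨t, ht, e⟩

include hn hg hP in
theorem cnt_mul {k t₀ : ZMod n} (hk : k ≠ 0) (ht₀ : t₀ ∈ Emul g₀ n) :
    cnt g₀ n k (k * t₀) = 1 := by
  classical
  unfold cnt
  rw [Finset.card_eq_one]
  refine ⟨t₀, ?_⟩
  ext t
  simp only [Finset.mem_filter, Finset.mem_singleton]
  constructor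
  · rintro ⟨ht, e⟩
    apply emul_inj hn P hP hg ht ht₀ hk
    rw [mul_comm, e, mul_comm]
  · rintro rfl
    exact ⟨ht₀, rfl⟩

include hn hg hP in
/-- Nonconjugate nonzero indices: distance `2`. -/
theorem dist_two (hM : IsPModular p M) {k l : ZMod n} (hk : k ≠ 0) (hl : l ≠ 0)
    (h : ¬ Rel g₀ n k l) :
    ∑ χ ∈ blk M G, ((coef hn χ k : ℝ) - (coef hn χ l : ℝ)) ^ 2 = 2 := by
  rw [dist_coef hn P hP hg hM, cnt_self hn P hP hg hk, cnt_self hn P hP hg hl, cnt_not h]
  norm_num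

include hn hg hP in
/-- Conjugate indices: equal multiplicities. -/
theorem coef_eq_of_rel (hM : IsPModular p M) {k l : ZMod n} (hk : k ≠ 0)
    (h : Rel g₀ n k l) {χ : IrrCharacter G} (hχ : χ ∈ blk M G) : coef hn χ k = coef hn χ l := by
  obtain ⟨t, ht, rfl⟩ := h
  have hl : k * t ≠ 0 := by
    intro h0
    -- `k t = 0` gives `pw (k t) = 1`, conjugate to `pw k`
    have h1 := emul_conj hn ht k
    rw [mul_comm t k, h0, pw_zero] at h1
    exact pw_ne_one hn hk (isConj_one_right.1 h1)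
  have h1 := dist_coef hn P hP hg hM k (k * t)
  rw [cnt_self hn P hP hg hk, cnt_self hn P hP hg hl, cnt_mul hn P hP hg hk ht] at h1
  have h2 : ∑ χ ∈ blk M G, ((coef hn χ k : ℝ) - (coef hn χ (k * t) : ℝ)) ^ 2 = 0 := by
    rw [h1]
    norm_num
  have h3 := (Finset.sum_eq_zero_iff_of_nonneg (fun _ _ => sq_nonneg _)).1 h2 χ hχ
  have h4 := pow_eq_zero_iff (two_ne_zero) |>.1 h3
  have h5 : (coef hn χ k : ℝ) = coef hn χ (k * t) := by linarith
  exact_mod_cast h5

include hn hg hP in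
/-- The distance from the index `0`. -/
theorem dist_zero (hM : IsPModular p M) {l : ZMod n} (hl : l ≠ 0) :
    ∑ χ ∈ blk M G, ((coef hn χ 0 : ℝ) - (coef hn χ l : ℝ)) ^ 2 = (Emul g₀ n).card + 1 := by
  rw [dist_coef hn P hP hg hM, cnt_zero_zero, cnt_self hn P hP hg hl, cnt_zero_ne hl]
  norm_num

/-- The multiplicities of the trivial character. -/
theorem coef_one (hn : orderOf g₀ = n) (l : ZMod n) :
    coef hn (oneI G) l = if l = 0 then 1 else 0 := by
  classical
  have hn0 : (n : ℂ) ≠ 0 := Nat.cast_ne_zero.2 (NeZero.ne n)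
  have h := coef_inv hn (oneI G) l
  simp only [oneI_apply, one_mul] at h
  have h2 : ∑ i : ZMod n, psi n (-(l * i)) = if -l = 0 then (n : ℂ) else 0 := by
    rw [← sum_psi (-l)]
    refine Finset.sum_congr rfl fun i _ => ?_
    congr 1
    ring
  rw [h2] at h
  have h3 : ((coef hn (oneI G) l : ℂ)) = if l = 0 then 1 else 0 := by
    apply mul_left_cancel₀ hn0
    rw [← h]
    by_cases hl : l = 0
    · simp [hl]
    · simp [hl]
  by_cases hl : l = 0
  · rw [if_pos hl] at h3 ⊢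
    exact_mod_cast h3
  · rw [if_neg hl] at h3 ⊢
    exact_mod_cast h3

include hn hg hP in
/-- The square bound for the coefficient at `0`, for a nontrivial character. -/
theorem coef_zero_sq_le (hM : IsPModular p M) {l : ZMod n} (hl : l ≠ 0) {χ : IrrCharacter G}
    (hχ : χ ∈ blk M G) (hne : χ ≠ oneI G) :
    ((coef hn χ 0 : ℤ) - coef hn χ l) ^ 2 ≤ (Emul g₀ n).card := by
  classical
  haveI := hM.2.1.isPrime
  have h1 := dist_zero hn P hP hg hM hl
  have hone : oneI G ∈ blk M G := mem_blk.2 (mem_blockOf_self (oneI G))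
  have hsub : ({χ, oneI G} : Finset (IrrCharacter G)) ⊆ blk M G := by
    intro ψ hψ
    simp only [Finset.mem_insert, Finset.mem_singleton] at hψ
    rcases hψ with rfl | rfl
    · exact hχ
    · exact hone
  have h2 : ∑ ψ ∈ ({χ, oneI G} : Finset (IrrCharacter G)),
      ((coef hn ψ 0 : ℝ) - (coef hn ψ l : ℝ)) ^ 2 ≤
      ∑ ψ ∈ blk M G, ((coef hn ψ 0 : ℝ) - (coef hn ψ l : ℝ)) ^ 2 :=
    Finset.sum_le_sum_of_subset_of_nonneg hsub (fun _ _ _ => sq_nonneg _)
  rw [Finset.sum_pair hne, h1, coef_one hn, coef_one hn, if_pos rfl, if_neg hl] at h2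
  have h3 : ((coef hn χ 0 : ℝ) - (coef hn χ l : ℝ)) ^ 2 ≤ (Emul g₀ n).card := by
    push_cast at h2
    linarith
  exact_mod_cast h3

/-- A set of mutually related indices has at most `|E|` elements. -/
theorem card_le_of_rel (F : Finset (ZMod n)) (h : ∀ k₁ ∈ F, ∀ k₂ ∈ F, Rel g₀ n k₁ k₂) :
    F.card ≤ (Emul g₀ n).card := by
  classical
  rcases F.eq_empty_or_nonempty with rfl | ⟨k₁, hk₁⟩
  · simp
  · have hsub : F ⊆ (Emul g₀ n).image (fun t => k₁ * t) := by
      intro k₂ hk₂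
      obtain ⟨t, ht, e⟩ := h k₁ hk₁ k₂ hk₂
      exact Finset.mem_image.2 ⟨t, ht, e⟩
    exact (Finset.card_le_card hsub).trans Finset.card_image_le

include hn hg hP in
/-- **The shape of the multiplicities of a character of the principal block**. -/
theorem shape (hM : IsPModular p M) (hcard : 4 * (Emul g₀ n).card < n - 1) {χ : IrrCharacter G}
    (hχ : χ ∈ blk M G) (hne : χ ≠ oneI G) :
    ∃ (W : ℕ) (S : Finset (ZMod n)) (ε : ℤ), S.card ≤ (Emul g₀ n).card ∧ (0 : ZMod n) ∉ S ∧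
      (ε = 1 ∨ (ε = -1 ∧ 1 ≤ W)) ∧
      (∀ k : ZMod n, k ≠ 0 → (coef hn χ k : ℤ) = W + if k ∈ S then ε else 0) ∧
      ((coef hn χ 0 : ℤ) - W) ^ 2 ≤ (Emul g₀ n).card := by
  classical
  set E := Emul g₀ n with hE
  have hE1 : 1 ≤ E.card := Finset.card_pos.2 ⟨1, one_mem_emul hn⟩
  set X : Finset (ZMod n) := Finset.univ.erase 0 with hX
  have hXcard : X.card = n - 1 := by
    rw [hX, Finset.card_erase_of_mem (Finset.mem_univ _), Finset.card_univ, ZMod.card]
  have hXne : X.Nonempty := by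
    rw [← Finset.card_pos, hXcard]
    omega
  obtain ⟨k₀, hk₀, hmin⟩ := X.exists_min_image (fun k => coef hn χ k) hXne
  have hk₀0 : k₀ ≠ 0 := Finset.ne_of_mem_erase hk₀
  set W := coef hn χ k₀ with hW
  have hdist : ∀ k l : ZMod n, k ≠ 0 → l ≠ 0 → ¬ Rel g₀ n k l →
      ((coef hn χ k : ℤ) - coef hn χ l) ^ 2 ≤ 2 := by
    intro k l hk hl hR
    have h1 := dist_two hn P hP hg hM hk hl hR
    have h2 : ((coef hn χ k : ℝ) - (coef hn χ l : ℝ)) ^ 2 ≤
        ∑ ψ ∈ blk M G, ((coef hn ψ k : ℝ) - (coef hn ψ l : ℝ)) ^ 2 :=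
      Finset.single_le_sum (f := fun ψ => ((coef hn ψ k : ℝ) - (coef hn ψ l : ℝ)) ^ 2)
        (fun _ _ => sq_nonneg _) hχ
    rw [h1] at h2
    exact_mod_cast h2
  have hval : ∀ k : ZMod n, k ≠ 0 → coef hn χ k = W ∨ coef hn χ k = W + 1 := by
    intro k hk
    have h1 : W ≤ coef hn χ k := hmin k (Finset.mem_erase.2 ⟨hk, Finset.mem_univ _⟩)
    have h2 : coef hn χ k ≤ W + 1 := by
      by_cases hR : Rel g₀ n k₀ k
      · have := coef_eq_of_rel hn P hP hg hM hk₀0 hR hχ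
        omega
      · have h3 := hdist k₀ k hk₀0 hk hR
        by_contra h4
        have h5 : (W : ℤ) + 2 ≤ coef hn χ k := by
          have : W + 2 ≤ coef hn χ k := by omega
          exact_mod_cast this
        have h6 : ((coef hn χ k₀ : ℤ) - coef hn χ k) ^ 2 ≥ 4 := by
          rw [← hW]
          nlinarith
        omega
    omega
  set A : Finset (ZMod n) := X.filter fun k => coef hn χ k = W + 1 with hA
  set B : Finset (ZMod n) := X.filter fun k => coef hn χ k = W with hB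
  have hmemA : ∀ k : ZMod n, k ∈ A ↔ k ≠ 0 ∧ coef hn χ k = W + 1 := by
    intro k
    simp [hA, hX]
  have hmemB : ∀ k : ZMod n, k ∈ B ↔ k ≠ 0 ∧ coef hn χ k = W := by
    intro k
    simp [hB, hX]
  have hsq : ∀ l : ZMod n, l ≠ 0 → ((coef hn χ 0 : ℤ) - coef hn χ l) ^ 2 ≤ E.card :=
    fun l hl => coef_zero_sq_le hn P hP hg hM hl hχ hne
  by_cases h1 : ∀ k₁ ∈ A, ∀ k₂ ∈ A, Rel g₀ n k₁ k₂
  · refine ⟨W, A, 1, card_le_of_rel A h1, ?_, Or.inl rfl, ?_, ?_⟩
    · intro h0
      exact ((hmemA 0).1 h0).1 rfl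
    · intro k hk
      by_cases hkA : k ∈ A
      · rw [if_pos hkA, ((hmemA k).1 hkA).2]
        push_cast
        ring
      · rw [if_neg hkA, add_zero]
        rcases hval k hk with h2 | h2
        · rw [h2]
        · exact absurd ((hmemA k).2 ⟨hk, h2⟩) hkA
    · have := hsq k₀ hk₀0
      rwa [← hW] at this
  · push Not at h1
    obtain ⟨k₁, hk₁, k₂, hk₂, hR12⟩ := h1
    obtain ⟨hk₁0, hk₁v⟩ := (hmemA k₁).1 hk₁
    obtain ⟨hk₂0, hk₂v⟩ := (hmemA k₂).1 hk₂
    have h2 : ∀ k₃ ∈ B, ∀ k₄ ∈ B, Rel g₀ n k₃ k₄ := by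
      by_contra hcon
      push Not at hcon
      obtain ⟨k₃, hk₃, k₄, hk₄, hR34⟩ := hcon
      obtain ⟨hk₃0, hk₃v⟩ := (hmemB k₃).1 hk₃
      obtain ⟨hk₄0, hk₄v⟩ := (hmemB k₄).1 hk₄
      -- the fifth index
      set U : Finset (ZMod n) := E.image (fun t => k₁ * t) ∪ E.image (fun t => k₂ * t) ∪
        E.image (fun t => k₃ * t) ∪ E.image (fun t => k₄ * t) with hU
      have hUcard : U.card < X.card := by
        rw [hXcard]
        refine lt_of_le_of_lt ?_ hcard
        have e1 : ∀ k : ZMod n, (E.image (fun t => k * t)).card ≤ E.card :=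
          fun k => Finset.card_image_le
        have e2 : U.card ≤ (E.image (fun t => k₁ * t) ∪ E.image (fun t => k₂ * t) ∪
            E.image (fun t => k₃ * t)).card + (E.image (fun t => k₄ * t)).card := by
          rw [hU]
          exact Finset.card_union_le _ _
        have e3 := Finset.card_union_le (E.image (fun t => k₁ * t) ∪ E.image (fun t => k₂ * t))
          (E.image (fun t => k₃ * t))
        have e4 := Finset.card_union_le (E.image (fun t => k₁ * t)) (E.image (fun t => k₂ * t))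
        have e5 := e1 k₁
        have e6 := e1 k₂
        have e7 := e1 k₃
        have e8 := e1 k₄
        omega
      obtain ⟨k₅, hk₅, hk₅U⟩ := Finset.exists_mem_notMem_of_card_lt_card hUcard
      have hk₅0 : k₅ ≠ 0 := Finset.ne_of_mem_erase hk₅
      have hnot : ∀ k : ZMod n, E.image (fun t => k * t) ⊆ U → ¬ Rel g₀ n k k₅ := by
        rintro k hk ⟨t, ht, e⟩
        exact hk₅U (hk (Finset.mem_image.2 ⟨t, ht, e⟩))
      have hR15 := hnot k₁ (by
        intro a ha
        simp only [hU, Finset.mem_union]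
        exact Or.inl (Or.inl (Or.inl ha)))
      have hR25 := hnot k₂ (by
        intro a ha
        simp only [hU, Finset.mem_union]
        exact Or.inl (Or.inl (Or.inr ha)))
      have hR35 := hnot k₃ (by
        intro a ha
        simp only [hU, Finset.mem_union]
        exact Or.inl (Or.inr ha))
      have hR45 := hnot k₄ (by
        intro a ha
        simp only [hU, Finset.mem_union]
        exact Or.inr ha)
      have hnv : ∀ k l : ZMod n, k ≠ 0 → coef hn χ k ≠ coef hn χ l → ¬ Rel g₀ n k l :=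
        fun k l hk hne' hR => hne' (coef_eq_of_rel hn P hP hg hM hk hR hχ)
      have hR13 := hnv k₁ k₃ hk₁0 (by omega)
      have hR14 := hnv k₁ k₄ hk₁0 (by omega)
      have hR23 := hnv k₂ k₃ hk₂0 (by omega)
      have hR24 := hnv k₂ k₄ hk₂0 (by omega)
      have hd := fun (k l : ZMod n) (hk : k ≠ 0) (hl : l ≠ 0) (hR : ¬ Rel g₀ n k l) =>
        dist_two hn P hP hg hM hk hl hR
      have hflip : ∀ k l : ZMod n, ∑ ψ ∈ blk M G, ((coef hn ψ k : ℝ) - (coef hn ψ l : ℝ)) ^ 2 = 2 →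
          ∑ ψ ∈ blk M G, ((coef hn ψ l : ℝ) - (coef hn ψ k : ℝ)) ^ 2 = 2 := by
        intro k l h
        rw [← h]
        refine Finset.sum_congr rfl fun ψ _ => ?_
        ring
      rcases hval k₅ hk₅0 with h5 | h5
      · refine vec5 (blk M G) (fun ψ => (coef hn ψ k₃ : ℝ)) (fun ψ => (coef hn ψ k₄ : ℝ))
          (fun ψ => (coef hn ψ k₁ : ℝ)) (fun ψ => (coef hn ψ k₂ : ℝ)) (fun ψ => (coef hn ψ k₅ : ℝ))
          hχ (β := (W : ℝ) + 1) (ε := -1) (by norm_num) ?_ ?_ ?_ ?_ ?_ ?_ ?_ ?_ ?_ ?_ ?_ ?_ ?_ ?_ ?_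
        · simp only [hk₃v]; ring
        · simp only [hk₄v]; ring
        · simp only [h5]; ring
        · simp only [hk₁v]; push_cast; ring
        · simp only [hk₂v]; push_cast; ring
        · exact hd k₃ k₄ hk₃0 hk₄0 hR34
        · exact hflip _ _ (hd k₁ k₃ hk₁0 hk₃0 hR13)
        · exact hflip _ _ (hd k₂ k₃ hk₂0 hk₃0 hR23)
        · exact hd k₃ k₅ hk₃0 hk₅0 hR35
        · exact hflip _ _ (hd k₁ k₄ hk₁0 hk₄0 hR14)
        · exact hflip _ _ (hd k₂ k₄ hk₂0 hk₄0 hR24)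
        · exact hd k₄ k₅ hk₄0 hk₅0 hR45
        · exact hd k₁ k₂ hk₁0 hk₂0 hR12
        · exact hd k₁ k₅ hk₁0 hk₅0 hR15
        · exact hd k₂ k₅ hk₂0 hk₅0 hR25
      · refine vec5 (blk M G) (fun ψ => (coef hn ψ k₁ : ℝ)) (fun ψ => (coef hn ψ k₂ : ℝ))
          (fun ψ => (coef hn ψ k₃ : ℝ)) (fun ψ => (coef hn ψ k₄ : ℝ)) (fun ψ => (coef hn ψ k₅ : ℝ))
          hχ (β := (W : ℝ)) (ε := 1) (by norm_num) ?_ ?_ ?_ ?_ ?_ ?_ ?_ ?_ ?_ ?_ ?_ ?_ ?_ ?_ ?_
        · simp only [hk₁v]; push_cast; ring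
        · simp only [hk₂v]; push_cast; ring
        · simp only [h5]; push_cast; ring
        · simp only [hk₃v]
        · simp only [hk₄v]
        · exact hd k₁ k₂ hk₁0 hk₂0 hR12
        · exact hd k₁ k₃ hk₁0 hk₃0 hR13
        · exact hd k₁ k₄ hk₁0 hk₄0 hR14
        · exact hd k₁ k₅ hk₁0 hk₅0 hR15
        · exact hd k₂ k₃ hk₂0 hk₃0 hR23
        · exact hd k₂ k₄ hk₂0 hk₄0 hR24
        · exact hd k₂ k₅ hk₂0 hk₅0 hR25
        · exact hd k₃ k₄ hk₃0 hk₄0 hR34
        · exact hd k₃ k₅ hk₃0 hk₅0 hR35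
        · exact hd k₄ k₅ hk₄0 hk₅0 hR45
    refine ⟨W + 1, B, -1, card_le_of_rel B h2, ?_, Or.inr ⟨rfl, by omega⟩, ?_, ?_⟩
    · intro h0
      exact ((hmemB 0).1 h0).1 rfl
    · intro k hk
      by_cases hkB : k ∈ B
      · rw [if_pos hkB, ((hmemB k).1 hkB).2]
        push_cast
        ring
      · rw [if_neg hkB, add_zero]
        rcases hval k hk with h3 | h3
        · exact absurd ((hmemB k).2 ⟨hk, h3⟩) hkB
        · rw [h3]
    · have := hsq k₁ hk₁0
      rwa [hk₁v] at this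

include hn hg hP in
/-- The number of multipliers is at most `p - 1`. -/
theorem emul_card_le {z : G} {j₀ : ZMod n} [Fintype (zpowers z)] (hz : pw g₀ n j₀ = z)
    (hj₀ : j₀ ≠ 0) (hzo : orderOf z = p) : (Emul g₀ n).card ≤ p - 1 := by
  classical
  have hz1 : z ≠ 1 := by
    rw [← hz]
    exact pw_ne_one hn hj₀
  let f : ZMod n → zpowers z := fun t => ⟨z ^ t.val, pow_mem (mem_zpowers z) _⟩
  have hf : ∀ t, (f t : G) = pw g₀ n (t * j₀) := by
    intro t
    change z ^ t.val = _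
    rw [pw_mul hn, hz]
  have h1 : (Emul g₀ n).card ≤ ((Finset.univ : Finset (zpowers z)).erase 1).card := by
    apply Finset.card_le_card_of_injOn f
    · intro t ht
      have ht' : t ∈ Emul g₀ n := ht
      simp only [Finset.coe_erase, Finset.coe_univ, Set.mem_sdiff, Set.mem_univ, Set.mem_singleton_iff,
        true_and]
      intro h0
      have h2 := congrArg Subtype.val h0
      rw [hf] at h2
      have h3 := emul_conj hn ht' j₀
      rw [h2, hz] at h3
      exact hz1 (isConj_one_right.1 h3)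
    · intro t ht t' ht' e
      have e' := congrArg Subtype.val e
      rw [hf, hf] at e'
      exact emul_inj hn P hP hg ht ht' hj₀ (pw_injective hn e')
  rwa [Finset.card_erase_of_mem (Finset.mem_univ _), Finset.card_univ,
    card_zpowers_of hzo] at h1

/-- The degree from the shape. -/
theorem degree_of_shape (hn : orderOf g₀ = n) {χ : IrrCharacter G} {W : ℕ} {S : Finset (ZMod n)}
    {ε : ℤ} (h0 : (0 : ZMod n) ∉ S)
    (hform : ∀ k : ZMod n, k ≠ 0 → (coef hn χ k : ℤ) = W + if k ∈ S then ε else 0)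
    {D : ℕ} (hD : (χ : G → ℂ) 1 = D) :
    (D : ℤ) = coef hn χ 0 + W * ((n : ℤ) - 1) + ε * S.card := by
  classical
  have hn1 : 1 ≤ n := Nat.pos_of_ne_zero (NeZero.ne n)
  have h1 := coef_spec hn χ 0
  rw [pw_zero, hD] at h1
  simp only [mul_zero, AddChar.map_zero_eq_one, mul_one] at h1
  have h2 : (D : ℤ) = ∑ k : ZMod n, (coef hn χ k : ℤ) := by
    have : (D : ℂ) = ((∑ k : ZMod n, (coef hn χ k : ℤ) : ℤ) : ℂ) := by
      rw [h1]
      push_cast
      rfl
    exact_mod_cast this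
  rw [h2, ← Finset.add_sum_erase Finset.univ _ (Finset.mem_univ (0 : ZMod n))]
  have h3 : ∑ k ∈ (Finset.univ : Finset (ZMod n)).erase 0, (coef hn χ k : ℤ) =
      ∑ k ∈ (Finset.univ : Finset (ZMod n)).erase 0, ((W : ℤ) + if k ∈ S then ε else 0) :=
    Finset.sum_congr rfl fun k hk => hform k (Finset.ne_of_mem_erase hk)
  rw [h3, Finset.sum_add_distrib, Finset.sum_const, Finset.card_erase_of_mem (Finset.mem_univ _),
    Finset.card_univ, ZMod.card, Finset.sum_ite_mem, Finset.sum_const]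
  have h4 : (Finset.univ : Finset (ZMod n)).erase 0 ∩ S = S := by
    apply Finset.inter_eq_right.2
    intro k hk
    refine Finset.mem_erase.2 ⟨?_, Finset.mem_univ _⟩
    rintro rfl
    exact h0 hk
  rw [h4]
  simp only [nsmul_eq_mul]
  push_cast [Nat.cast_sub hn1]
  ring

/-- The value on a nonidentity element from the shape. -/
theorem value_of_shape (hn : orderOf g₀ = n) {χ : IrrCharacter G} {W : ℕ} {S : Finset (ZMod n)}
    {ε : ℤ} (hε : ε = 1 ∨ ε = -1) (h0 : (0 : ZMod n) ∉ S)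
    (hform : ∀ k : ZMod n, k ≠ 0 → (coef hn χ k : ℤ) = W + if k ∈ S then ε else 0)
    {j₀ : ZMod n} (hj₀ : j₀ ≠ 0) :
    ((χ : G → ℂ) (pw g₀ n j₀)).re ≤ (coef hn χ 0 : ℝ) - W + S.card := by
  classical
  let ρ : ZMod n → ℝ := fun k => (psi n (k * j₀)).re
  have hρ1 : ρ 0 = 1 := by
    simp [ρ]
  have hρle : ∀ k, |ρ k| ≤ 1 := by
    intro k
    have h1 : ‖psi n (k * j₀)‖ = 1 := AddChar.norm_apply _ _
    have h2 := Complex.abs_re_le_norm (psi n (k * j₀))
    rw [h1] at h2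
    exact h2
  have hsum : ∑ k : ZMod n, ρ k = 0 := by
    have h1 := sum_psi (n := n) j₀
    rw [if_neg hj₀] at h1
    have h2 := congrArg Complex.re h1
    simp only [Complex.re_sum, Complex.zero_re] at h2
    exact h2
  have hsum' : ∑ k ∈ (Finset.univ : Finset (ZMod n)).erase 0, ρ k = -1 := by
    rw [← Finset.add_sum_erase Finset.univ _ (Finset.mem_univ (0 : ZMod n)), hρ1] at hsum
    linarith
  have h1 : ((χ : G → ℂ) (pw g₀ n j₀)).re = ∑ k : ZMod n, (coef hn χ k : ℝ) * ρ k := by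
    rw [coef_spec hn χ j₀, Complex.re_sum]
    refine Finset.sum_congr rfl fun k _ => ?_
    simp only [ρ, Complex.mul_re, Complex.natCast_re, Complex.natCast_im, zero_mul, sub_zero]
  rw [h1, ← Finset.add_sum_erase Finset.univ _ (Finset.mem_univ (0 : ZMod n)), hρ1, mul_one]
  have h2 : ∀ k ∈ (Finset.univ : Finset (ZMod n)).erase 0, (coef hn χ k : ℝ) * ρ k =
      (W : ℝ) * ρ k + (if k ∈ S then (ε : ℝ) * ρ k else 0) := by
    intro k hk
    have h3 := hform k (Finset.ne_of_mem_erase hk)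
    have h4 : (coef hn χ k : ℝ) = (W : ℝ) + if k ∈ S then (ε : ℝ) else 0 := by
      have : ((coef hn χ k : ℤ) : ℝ) = (((W : ℤ) + if k ∈ S then ε else 0 : ℤ) : ℝ) := by rw [h3]
      push_cast at this
      exact this
    rw [h4]
    split_ifs
    · ring
    · ring
  rw [Finset.sum_congr rfl h2, Finset.sum_add_distrib, ← Finset.mul_sum, hsum', Finset.sum_ite_mem]
  have h4 : (Finset.univ : Finset (ZMod n)).erase 0 ∩ S = S := by
    apply Finset.inter_eq_right.2
    intro k hk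
    refine Finset.mem_erase.2 ⟨?_, Finset.mem_univ _⟩
    rintro rfl
    exact h0 hk
  rw [h4]
  have h5 : ∑ k ∈ S, (ε : ℝ) * ρ k ≤ S.card := by
    have : ∀ k ∈ S, (ε : ℝ) * ρ k ≤ 1 := by
      intro k _
      have h6 := abs_le.1 (hρle k)
      rcases hε with rfl | rfl
      · push_cast
        linarith [h6.2]
      · push_cast
        linarith [h6.1]
    calc ∑ k ∈ S, (ε : ℝ) * ρ k ≤ ∑ k ∈ S, (1 : ℝ) := Finset.sum_le_sum this
      _ = S.card := by simp
  linarith

include hn hg hP in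
/-- **The bound on the values, when `n` is large**. -/
theorem hiv_large (hM : IsPModular p M) {z : G} {j₀ : ZMod n} [Fintype (zpowers z)]
    (hz : pw g₀ n j₀ = z) (hj₀ : j₀ ≠ 0) (hzo : orderOf z = p)
    (hc : ∀ x y : G, orderOf x = p → orderOf y = p → IsPSolvable p ↥(closure ({x, y} : Set G)))
    (hK : normalClosure ({z} : Set G) = ⊤) (hp3 : 3 ≤ p) (hlarge : 5 * (p - 1) ≤ n)
    {χ : IrrCharacter G} (hχ : χ ∈ bpos M z) (hne : χ ≠ oneI G) (ha : 0 < ((χ : G → ℂ) z).re) :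
    5 * ((χ : G → ℂ) z).re ≤ 2 * ((χ : G → ℂ) 1).re := by
  classical
  have hzP : z ∈ (P : Subgroup G) := by
    rw [hg, ← hz]
    exact pw_mem j₀
  obtain ⟨A, D, m, hD0, -, hA, hD, -, -, -⟩ := exists_int_value P hP hM hzP hzo hc hχ
  have hge := deg_ge P hP hM hzP hzo hc hK hχ hne hA hD
  have hE := emul_card_le hn P hP hg hz hj₀ hzo
  obtain ⟨W, S, ε, hScard, hS0, hε, hform, hsq⟩ :=
    shape hn P hP hg hM (by omega) (mem_bpos.1 hχ).1 hne
  have hε' : ε = 1 ∨ ε = -1 := by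
    rcases hε with h | h
    · exact Or.inl h
    · exact Or.inr h.1
  have hdeg := degree_of_shape hn hS0 hform hD
  have hval := value_of_shape hn hε' hS0 hform hj₀
  rw [hz] at hval
  have e1 : ((χ : G → ℂ) z).re = A := by
    rw [hA]
    simp
  have e2 : ((χ : G → ℂ) 1).re = D := by
    rw [hD]
    simp
  rw [e1] at hval ha
  rw [e1, e2]
  have hval' : A ≤ (coef hn χ 0 : ℤ) - W + S.card := by
    have : (A : ℝ) ≤ (((coef hn χ 0 : ℤ) - W + S.card : ℤ) : ℝ) := by
      push_cast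
      exact hval
    exact_mod_cast this
  have ha' : 0 < A := by exact_mod_cast ha
  suffices h : 5 * A ≤ 2 * D by exact_mod_cast h
  obtain ⟨x, hx⟩ : ∃ x : ℤ, x = (coef hn χ 0 : ℤ) - W := ⟨_, rfl⟩
  obtain ⟨e, he⟩ : ∃ e : ℤ, e = ((Emul g₀ n).card : ℤ) := ⟨_, rfl⟩
  rw [← hx, ← he] at hsq
  rw [← hx] at hval'
  have he0 : 0 ≤ e := by
    rw [he]
    exact Int.natCast_nonneg _
  have hxe : x ≤ e := by
    by_contra hcon
    push Not at hcon
    nlinarith
  have h2x : 2 * x ≤ e + 1 := by nlinarith [sq_nonneg (x - 1)]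
  have hSc : (S.card : ℤ) ≤ e := by
    rw [he]
    exact_mod_cast hScard
  have hEp : e ≤ (p : ℤ) - 1 := by
    have h1 : (Emul g₀ n).card ≤ p - 1 := hE
    have h2 : 1 ≤ p := by omega
    rw [he]
    have h3 : (((Emul g₀ n).card : ℕ) : ℤ) ≤ ((p - 1 : ℕ) : ℤ) := by exact_mod_cast h1
    rw [Nat.cast_sub h2] at h3
    exact_mod_cast h3
  have hl : 5 * ((p : ℤ) - 1) ≤ n := by
    have h1 : 1 ≤ p := by omega
    have : ((5 * (p - 1) : ℕ) : ℤ) ≤ n := by exact_mod_cast hlarge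
    push_cast [Nat.cast_sub h1] at this
    exact this
  have hSnn : (0 : ℤ) ≤ S.card := Int.natCast_nonneg _
  have hc0 : (coef hn χ 0 : ℤ) = x + W := by
    rw [hx]
    ring
  rw [hc0] at hdeg
  rcases Nat.eq_zero_or_pos W with hW | hW
  · -- `W = 0`
    subst hW
    have hε1 : ε = 1 := by
      rcases hε with h | h
      · exact h
      · omega
    subst hε1
    simp only [Nat.cast_zero, add_zero, zero_mul, one_mul, sub_zero] at hdeg hval' hx
    omega
  · have hWn : (n : ℤ) ≤ (W : ℤ) * n := by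
      have h1 : (1 : ℤ) ≤ W := by exact_mod_cast hW
      have h2 : (0 : ℤ) ≤ n := Int.natCast_nonneg _
      nlinarith
    have h3 : (W : ℤ) * ((n : ℤ) - 1) = (W : ℤ) * n - W := by ring
    rw [h3] at hdeg
    rcases hε' with rfl | rfl
    · have : (D : ℤ) = x + W + ((W : ℤ) * n - W) + S.card := by rw [hdeg]; ring
      omega
    · have : (D : ℤ) = x + W + ((W : ℤ) * n - W) - S.card := by rw [hdeg]; ring
      omega

end Fus

end Cfsg.Agent.Lib.CycPairs.Fourier
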