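import Cfsg.Agent.Lib.CycPairs.Fourier

/-!
# Cyclic Sylow subgroups: pairs of elements of order `p` generating `p`-solvable subgroups
-/

set_option autoImplicit false
set_option linter.unusedSectionVars false
set_option linter.style.haveILetI false

namespace Cfsg.Agent.Lib.CycPairs.Main

open Cfsg Subgroup
open Cfsg.Agent.Lib.CyclicSylow Cfsg.Agent.Lib.CyclicSylow.Basic
open Cfsg.Agent.Lib.Core.Basic Cfsg.Agent.Lib.Core.PSolvable
open Cfsg.Agent.Lib.StrongSec.PairSolv Cfsg.Agent.Lib.StrongSec.EABlock
open Cfsg.Agent.Lib.Blocks.PPart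
open Cfsg.Agent.Lib.Blocks.Central Cfsg.Agent.Lib.Blocks.Weak Cfsg.Agent.Lib.Blocks.Third
open Cfsg.Agent.Lib.Blocks.General
open Cfsg.Agent.Lib.ZStar.Section
open Cfsg.Agent.Lib.CycPairs.Basic Cfsg.Agent.Lib.CycPairs.Sec Cfsg.Agent.Lib.CycPairs.Omega
open Cfsg.Agent.Lib.CycPairs.Fourier
open scoped ComplexConjugate

universe u

/-- **The theorem for simple groups**. -/
theorem core {G : Type u} [Group G] [Finite G] [IsSimpleGroup G] {p : ℕ} [hp : Fact p.Prime]
    (P : Sylow p G) (hP : IsCyclic P)
    (hc : ∀ x y : G, orderOf x = p → orderOf y = p → IsPSolvable p ↥(closure ({x, y} : Set G)))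
    {z r : G} (hzP : z ∈ (P : Subgroup G)) (hzo : orderOf z = p) (hr : r ∈ zpowers z)
    (hrz : r ≠ z) (hconj : IsConj r z) : False := by
  classical
  have hpp : p.Prime := hp.out
  letI : Fintype G := Fintype.ofFinite G
  haveI := Cfsg.Agent.Lib.Char.Ortho.finite_irrCharacter (G := G)
  letI : Fintype (IrrCharacter G) := Fintype.ofFinite _
  obtain ⟨M, hM⟩ := Cfsg.Agent.Lib.BlockH.Basic.exists_isPModular hpp
  haveI := hM.2.1.isPrime
  letI : Fintype (zpowers z) := Fintype.ofFinite _
  have hz1 : z ≠ 1 := by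
    rintro rfl
    rw [orderOf_one] at hzo
    exact hpp.one_lt.ne hzo
  have hK : normalClosure ({z} : Set G) = ⊤ := by
    refine (IsSimpleGroup.eq_bot_or_eq_top_of_normal _ normalClosure_normal).resolve_left ?_
    intro hbot
    apply hz1
    have h1 : z ∈ normalClosure ({z} : Set G) := subset_normalClosure (by simp)
    rw [hbot] at h1
    exact mem_bot.1 h1
  have he : 2 ≤ ecount z z := by
    unfold ecount
    have h1 : 1 < (Finset.univ.filter fun r : zpowers z => IsConj (r : G) z).card := by
      rw [Finset.one_lt_card]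
      refine ⟨⟨z, mem_zpowers z⟩, Finset.mem_filter.2 ⟨Finset.mem_univ _, IsConj.refl z⟩, ⟨r, hr⟩,
        Finset.mem_filter.2 ⟨Finset.mem_univ _, hconj⟩, ?_⟩
      · intro h
        exact hrz (congrArg Subtype.val h).symm
    exact h1
  have hep := ecount_le hzo hz1
  have hp3 : 3 ≤ p := by omega
  obtain ⟨⟨g₀, hg₀⟩, hgen⟩ := hP.exists_generator
  have hg : (P : Subgroup G) = zpowers g₀ := by
    ext x
    constructor
    · intro hx
      obtain ⟨k, hk⟩ := hgen ⟨x, hx⟩
      exact ⟨k, congrArg Subtype.val hk⟩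
    · intro hx
      have : zpowers g₀ ≤ (P : Subgroup G) := by
        rw [zpowers_le]
        exact hg₀
      exact this hx
  obtain ⟨n, hn⟩ : ∃ n : ℕ, orderOf g₀ = n := ⟨_, rfl⟩
  haveI : NeZero n := ⟨by
    rw [← hn]
    exact (orderOf_pos g₀).ne'⟩
  have hzg : z ∈ zpowers g₀ := by
    rw [← hg]
    exact hzP
  obtain ⟨j₀, hj₀⟩ := exists_pw hn hzg
  have hj₀0 : j₀ ≠ 0 := by
    rintro rfl
    rw [pw_zero] at hj₀
    exact hz1 hj₀.symm
  have hcardP := card_P hn P hg
  refine false_of_bound P hM hzP hzo hP hc hK he ?_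
  intro χ hχ hne ha
  by_cases hlarge : 5 * (p - 1) ≤ n
  · exact hiv_large hn P hP hg hM hj₀ hj₀0 hzo hc hK hp3 hlarge hχ hne ha
  · -- the small case
    obtain ⟨A, D, m, hD0, -, hA, hD, -, -, -⟩ := exists_int_value P hP hM hzP hzo hc hχ
    have hge := deg_ge P hP hM hzP hzo hc hK hχ hne hA hD
    have e1 : ((χ : G → ℂ) z).re = A := by
      rw [hA]
      simp
    have e2 : ((χ : G → ℂ) 1).re = D := by
      rw [hD]
      simp
    rw [e1] at ha ⊢
    rw [e2]
    have ha' : 0 < A := by exact_mod_cast ha
    suffices h : 3 * A ≤ 2 * (p : ℤ) by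
      have h1 : 5 * A ≤ 2 * (D : ℤ) := by omega
      exact_mod_cast h1
    -- the sum of squares
    have hs := sum_sq_le P hP hM hzP hzo hc
    have hone : oneI G ∈ bpos M z := by
      rw [mem_bpos]
      refine ⟨mem_blk.2 (mem_blockOf_self (oneI G)), ?_⟩
      unfold omegaSum
      simp only [oneI_apply, Finset.sum_const, Finset.card_univ, card_zpowers_of hzo, nsmul_eq_mul,
        mul_one]
      exact Nat.cast_ne_zero.2 hpp.ne_zero
    have hsub : ({χ, oneI G} : Finset (IrrCharacter G)) ⊆ bpos M z := by
      intro ψ hψ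
      simp only [Finset.mem_insert, Finset.mem_singleton] at hψ
      rcases hψ with rfl | rfl
      · exact hχ
      · exact hone
    have h2 : ∑ ψ ∈ ({χ, oneI G} : Finset (IrrCharacter G)), ((ψ : G → ℂ) z).re ^ 2 ≤
        ∑ ψ ∈ bpos M z, ((ψ : G → ℂ) z).re ^ 2 :=
      Finset.sum_le_sum_of_subset_of_nonneg hsub (fun _ _ _ => sq_nonneg _)
    rw [Finset.sum_pair hne, e1] at h2
    simp only [oneI_apply, Complex.one_re, one_pow] at h2
    have hp1 : (0 : ℝ) < (p : ℝ) - 1 := by
      have : (3 : ℝ) ≤ p := by exact_mod_cast hp3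
      linarith
    have hep' : (ecount z z : ℝ) ≤ (p : ℝ) - 1 := by
      have h3 : ((ecount z z : ℕ) : ℝ) ≤ ((p - 1 : ℕ) : ℝ) := by exact_mod_cast hep
      rwa [Nat.cast_sub hpp.one_le, Nat.cast_one] at h3
    have hnn : (0 : ℝ) ≤ Nat.card (P : Subgroup G) := Nat.cast_nonneg _
    have hs2 : ((p : ℝ) - 1) * ∑ ψ ∈ bpos M z, ((ψ : G → ℂ) z).re ^ 2 ≤
        (Nat.card (P : Subgroup G) : ℝ) * ((p : ℝ) - 1) :=
      hs.trans (mul_le_mul_of_nonneg_left hep' hnn)
    have hs3 : ∑ ψ ∈ bpos M z, ((ψ : G → ℂ) z).re ^ 2 ≤ (Nat.card (P : Subgroup G) : ℝ) := by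
      rw [mul_comm (Nat.card _ : ℝ)] at hs2
      exact le_of_mul_le_mul_left hs2 hp1
    rw [hcardP] at hs3
    have hsq : A ^ 2 + 1 ≤ (n : ℤ) := by
      have h3 : ((A : ℝ)) ^ 2 + 1 ≤ n := h2.trans hs3
      exact_mod_cast h3
    -- the structure of `n`
    obtain ⟨k, hk⟩ := IsPGroup.iff_card.1 P.isPGroup'
    rw [hcardP] at hk
    have hkcases : k = 1 ∨ (p = 3 ∧ n = 9) := by
      rcases Nat.lt_or_ge k 2 with h3 | h3
      · rcases Nat.lt_or_ge k 1 with h4 | h4
        · have h5 : k = 0 := by omega
          exfalso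
          rw [h5, pow_zero] at hk
          have h6 : p ∣ n := by
            rw [← hcardP]
            have h0 := Subgroup.orderOf_dvd_natCard (P : Subgroup G) hzP
            rwa [hzo] at h0
          rw [hk] at h6
          exact hpp.one_lt.ne' (Nat.dvd_one.1 h6)
        · left
          omega
      · right
        have h4 : p ^ 2 ≤ n := by
          rw [hk]
          exact Nat.pow_le_pow_right hpp.pos h3
        have h5 : n < 5 * (p - 1) := not_le.1 hlarge
        have h6 : p ≤ 3 := by
          by_contra h7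
          push Not at h7
          have h8 : 4 ≤ p := h7
          obtain ⟨q, rfl⟩ : ∃ q, p = q + 1 := ⟨p - 1, by omega⟩
          simp only [Nat.add_sub_cancel] at h5
          nlinarith
        have h7 : p = 3 := by omega
        subst h7
        refine ⟨rfl, ?_⟩
        have h8 : n < 10 := by omega
        rcases Nat.lt_or_ge k 3 with h9 | h9
        · have : k = 2 := by omega
          subst this
          omega
        · have : 3 ^ 3 ≤ n := by
            rw [hk]
            exact Nat.pow_le_pow_right (by norm_num) h9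
          omega
    rcases hkcases with h3 | ⟨h3, h4⟩
    · rw [h3, pow_one] at hk
      rw [hk] at hsq
      by_contra hcon
      push Not at hcon
      have h5 : (0 : ℤ) ≤ p := Int.natCast_nonneg _
      nlinarith
    · rw [h4] at hsq
      rw [h3]
      have h5 : A ≤ 2 := by
        by_contra hcon
        push Not at hcon
        have h6 : (3 : ℤ) ≤ A := by omega
        push_cast at hsq
        nlinarith
      push_cast
      omega

section Reduce

variable {p : ℕ} [hp : Fact p.Prime]

/-- An element of order `p` of a quotient by a `p'`-subgroup lifts to an element of order `p`. -/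
theorem exists_lift_order {G : Type*} [Group G] [Finite G] (U : Subgroup G) [U.Normal]
    (hU : (Nat.card U).Coprime p) {a : G ⧸ U} (ha : orderOf a = p) :
    ∃ x : G, (x : G ⧸ U) = a ∧ orderOf x = p := by
  have hpp : p.Prime := hp.out
  obtain ⟨x₀, rfl⟩ := QuotientGroup.mk_surjective a
  obtain ⟨u, y, e, hc, ⟨k, hk⟩, hy⟩ := exists_pPart_y (p := p) x₀
  let π : G →* G ⧸ U := QuotientGroup.mk' U
  have h1 : IsPPart p (π x₀) (π u) := by
    refine ⟨π y, by rw [← map_mul, e], hc.map π, ?_, ?_⟩
    · have h2 : orderOf (π u) ∣ p ^ k := by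
        rw [← hk]
        exact orderOf_map_dvd π u
      obtain ⟨j, -, hj⟩ := (Nat.dvd_prime_pow hpp).1 h2
      exact ⟨j, hj⟩
    · intro h2
      exact hy (h2.trans (orderOf_map_dvd π y))
  have h2 : IsPPart p (π x₀) (π x₀) := by
    refine ⟨1, mul_one _, Commute.one_right _, ⟨1, ?_⟩, by simpa using hpp.ne_one⟩
    rw [pow_one]
    exact ha
  have h3 : π u = π x₀ := isPPart_unique h1 h2
  refine ⟨u, h3, ?_⟩
  have hpow : u ^ p = 1 := by
    have h4 : π (u ^ p) = 1 := by
      rw [map_pow, h3]
      have : (π x₀) ^ p = 1 := by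
        have h5 : orderOf (π x₀) = p := ha
        rw [← h5]
        exact pow_orderOf_eq_one _
      exact this
    have h5 : u ^ p ∈ U := (QuotientGroup.eq_one_iff _).1 h4
    have h6 : orderOf (u ^ p) ∣ Nat.card U := by
      have := Subgroup.orderOf_dvd_natCard U h5
      exact this
    have h7 : orderOf (u ^ p) ∣ p ^ k := by
      apply orderOf_dvd_of_pow_eq_one
      rw [← pow_mul, mul_comm, pow_mul, ← hk, pow_orderOf_eq_one, one_pow]
    have h8 : Nat.Coprime (Nat.card U) (p ^ k) := Nat.Coprime.pow_right _ hU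
    exact orderOf_eq_one_iff.1 (Nat.eq_one_of_dvd_coprimes h8 h6 h7)
  apply orderOf_eq_prime hpow
  rintro rfl
  have h5 : π x₀ = 1 := by
    rw [← h3, map_one]
  have h6 : orderOf (π x₀) = p := ha
  rw [h5, orderOf_one] at h6
  exact hpp.one_lt.ne h6

/-- The hypothesis on pairs passes to quotients by `p'`-subgroups. -/
theorem pair_quot {G : Type*} [Group G] [Finite G] (U : Subgroup G) [U.Normal]
    (hU : (Nat.card U).Coprime p)
    (hc : ∀ x y : G, orderOf x = p → orderOf y = p → IsPSolvable p ↥(closure ({x, y} : Set G)))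
    (a b : G ⧸ U) (ha : orderOf a = p) (hb : orderOf b = p) :
    IsPSolvable p ↥(closure ({a, b} : Set (G ⧸ U))) := by
  obtain ⟨x, rfl, hx⟩ := exists_lift_order U hU ha
  obtain ⟨y, rfl, hy⟩ := exists_lift_order U hU hb
  let π : G →* G ⧸ U := QuotientGroup.mk' U
  have h1 : (closure ({x, y} : Set G)).map π = closure ({(x : G ⧸ U), (y : G ⧸ U)} : Set (G ⧸ U)) := by
    rw [MonoidHom.map_closure, Set.image_pair]
    rfl
  rw [← h1]
  exact isPSolvable_of_surjective (π.subgroupMap _) (π.subgroupMap_surjective _) (hc x y hx hy)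

/-- The hypothesis on pairs passes to subgroups. -/
theorem pair_sub {G : Type*} [Group G] [Finite G] (N : Subgroup G)
    (hc : ∀ x y : G, orderOf x = p → orderOf y = p → IsPSolvable p ↥(closure ({x, y} : Set G)))
    (a b : N) (ha : orderOf a = p) (hb : orderOf b = p) :
    IsPSolvable p ↥(closure ({a, b} : Set N)) := by
  have h1 : (closure ({a, b} : Set N)).map N.subtype = closure ({(a : G), (b : G)} : Set G) := by
    rw [MonoidHom.map_closure, Set.image_pair]
    rfl
  have ha' : orderOf (a : G) = p := by rw [Subgroup.orderOf_coe]; exact ha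
  have hb' : orderOf (b : G) = p := by rw [Subgroup.orderOf_coe]; exact hb
  have h2 := hc _ _ ha' hb'
  rw [← h1] at h2
  exact isPSolvable_of_equiv
    (Subgroup.equivMapOfInjective _ N.subtype N.subtype_injective).symm h2

/-- A normal subgroup of order `p`, and trivial `O_{p'}`: `G` is `p`-solvable. -/
theorem of_normal_z {G : Type*} [Group G] [Finite G] (P : Sylow p G) (hP : IsCyclic P) {z : G}
    (hzP : z ∈ (P : Subgroup G)) (hzo : orderOf z = p) (hzn : (zpowers z).Normal)
    (hU : pPrimeCore p G = ⊥) : IsPSolvable p G := by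
  have hpp : p.Prime := hp.out
  have hz1 : z ≠ 1 := by
    rintro rfl
    rw [orderOf_one] at hzo
    exact hpp.one_lt.ne hzo
  set C := centralizer ({z} : Set G) with hC
  have hCn : C.Normal := by
    constructor
    intro c hc g
    rw [hC, mem_centralizer_singleton_iff] at hc ⊢
    have h1 : g⁻¹ * z * g ∈ zpowers z := by
      have := hzn.conj_mem z (mem_zpowers z) g⁻¹
      simpa using this
    obtain ⟨k, hk⟩ := h1
    simp only at hk
    have h2 : c * (g⁻¹ * z * g) = (g⁻¹ * z * g) * c := by
      rw [← hk]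
      exact (Commute.zpow_right hc k)
    calc g * c * g⁻¹ * z = g * (c * (g⁻¹ * z * g)) * g⁻¹ := by group
      _ = g * ((g⁻¹ * z * g) * c) * g⁻¹ := by rw [h2]
      _ = z * (g * c * g⁻¹) := by group
  haveI := hCn
  obtain ⟨T, N, hN, hcomp⟩ := centralizer_complement P hP hzP hz1
  have hNcop : (Nat.card N).Coprime p := by
    rw [← hcomp.index_eq_card]
    exact ((Nat.Prime.coprime_iff_not_dvd hpp).2 T.not_dvd_index).symm
  have hNcore : N ≤ pPrimeCore p C := le_pPrimeCore hN hNcop
  have hcore : pPrimeCore p C = ⊥ := by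
    have h1 : ((pPrimeCore p C).map C.subtype).Normal :=
      Cfsg.Agent.Lib.Transfer.Basic.map_subtype_normal_of_characteristic C _
    have h2 : (Nat.card ((pPrimeCore p C).map C.subtype)).Coprime p := by
      rw [Subgroup.card_map_of_injective C.subtype_injective]
      exact pPrimeCore_coprime
    have h3 := le_pPrimeCore h1 h2
    rw [hU, le_bot_iff] at h3
    exact (Subgroup.map_eq_bot_iff_of_injective _ C.subtype_injective).1 h3
  have hNbot : N = ⊥ := by
    rw [hcore, le_bot_iff] at hNcore
    exact hNcore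
  have hcardC : Nat.card C = Nat.card T := by
    have h1 := hcomp.card_mul
    rw [hNbot] at h1
    simpa using h1.symm
  have hCp : IsPGroup p C := by
    obtain ⟨k, hk⟩ := IsPGroup.iff_card.1 T.isPGroup'
    rw [IsPGroup.iff_card]
    exact ⟨k, by rw [hcardC, hk]⟩
  have hPC : (P : Subgroup G) ≤ C := by
    intro a ha
    rw [hC, mem_centralizer_singleton_iff]
    exact comm_of_isCyclic hP ha hzP
  have hCP : C = (P : Subgroup G) := P.3 hCp hPC
  rw [hCP] at hCn
  haveI := hCn
  obtain ⟨k, hk⟩ := IsPGroup.iff_card.1 P.isPGroup'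
  refine isPSolvable_of_normal_of_quotient (P : Subgroup G) (Or.inl ⟨k, hk⟩)
    (isPSolvable_of_isPOrCoprime (Or.inr ?_))
  rw [← Subgroup.index_eq_card]
  exact ((Nat.Prime.coprime_iff_not_dvd hpp).2 P.not_dvd_index).symm

/-- A nontrivial normal `p`-solvable subgroup with trivial `O_{p'}(G)` gives a normal subgroup of
order `p`. -/
theorem exists_normal_z {G : Type*} [Group G] [Finite G] (P : Sylow p G) (hP : IsCyclic P)
    (hU : pPrimeCore p G = ⊥) (N : Subgroup G) [hN : N.Normal] (hN1 : N ≠ ⊥)
    (hS : IsPSolvable p N) :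
    ∃ z ∈ (P : Subgroup G), orderOf z = p ∧ (zpowers z).Normal := by
  have hpp : p.Prime := hp.out
  have hcore : pPrimeCore p N = ⊥ := by
    have h1 : ((pPrimeCore p N).map N.subtype).Normal :=
      Cfsg.Agent.Lib.Transfer.Basic.map_subtype_normal_of_characteristic N _
    have h2 : (Nat.card ((pPrimeCore p N).map N.subtype)).Coprime p := by
      rw [Subgroup.card_map_of_injective N.subtype_injective]
      exact pPrimeCore_coprime
    have h3 := le_pPrimeCore h1 h2
    rw [hU, le_bot_iff] at h3
    exact (Subgroup.map_eq_bot_iff_of_injective _ N.subtype_injective).1 h3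
  have hC := centralizer_pCore_le_of_isPSolvable hS hcore
  have hne : pCore p N ≠ ⊥ := by
    intro h0
    apply hN1
    rw [h0] at hC
    have h1 : centralizer ((⊥ : Subgroup N) : Set N) = ⊤ := by
      rw [eq_top_iff]
      intro a _
      rw [mem_centralizer_iff]
      intro b hb
      have : b = 1 := by simpa using hb
      rw [this, one_mul, mul_one]
    rw [h1] at hC
    rw [eq_bot_iff]
    intro a ha
    have h2 : (⟨a, ha⟩ : N) ∈ (⊥ : Subgroup N) := hC (mem_top _)
    have h3 : (⟨a, ha⟩ : N) = 1 := mem_bot.1 h2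
    exact mem_bot.2 (congrArg Subtype.val h3)
  set R := (pCore p N).map N.subtype with hR
  have hRn : R.Normal := Cfsg.Agent.Lib.Transfer.Basic.map_subtype_normal_of_characteristic N _
  have hRp : IsPGroup p R := (pCore_isPGroup (p := p) (G := N)).map _
  have hRle : R ≤ (P : Subgroup G) := (le_pCore hRn hRp).trans (pCore_le_sylow P)
  obtain ⟨w, hw, hw1⟩ : ∃ w ∈ R, w ≠ 1 := by
    refine (bot_or_exists_ne_one R).resolve_left ?_
    intro h0
    exact hne ((Subgroup.map_eq_bot_iff_of_injective _ N.subtype_injective).1 h0)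
  obtain ⟨k, hk⟩ := (IsPGroup.iff_orderOf.mp hRp) ⟨w, hw⟩
  have hk' : orderOf w = p ^ k := by rw [← hk]; exact (Subgroup.orderOf_mk w hw).symm
  have hk0 : k ≠ 0 := by
    rintro rfl
    rw [pow_zero, orderOf_eq_one_iff] at hk'
    exact hw1 hk'
  have hd : p ∣ orderOf w := by rw [hk']; exact dvd_pow_self p hk0
  set z := w ^ (orderOf w / p) with hz
  have hzo : orderOf z = p := orderOf_pow_orderOf_div (orderOf_pos w).ne' hd
  have hzR : z ∈ R := pow_mem hw _
  refine ⟨z, hRle hzR, hzo, ?_⟩
  constructor
  rintro _ ⟨i, rfl⟩ g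
  simp only
  have h1 : g * z * g⁻¹ ∈ zpowers z := by
    apply mem_zpowers_of_pow_eq_one hP (hRle hzR) hzo (hRle (hRn.conj_mem z hzR g))
    rw [conj_pow, ← hzo, pow_orderOf_eq_one]
    group
  rw [← conj_zpow]
  exact zpow_mem h1 i

/-- **Pairs of elements of order `p`: the forward direction**. -/
theorem forward (m : ℕ) : ∀ (G : Type u) [Group G] [Finite G], Nat.card G = m → ∀ P : Sylow p G,
    IsCyclic P →
    (∀ x y : G, orderOf x = p → orderOf y = p → IsPSolvable p ↥(closure ({x, y} : Set G))) →
    IsPSolvable p G := by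
  induction m using Nat.strong_induction_on with
  | _ m ih =>
    intro G _ _ hG P hP hc
    have hpp : p.Prime := hp.out
    by_contra hns
    have hU : pPrimeCore p G = ⊥ := by
      by_contra hne
      have hUn : (pPrimeCore p G).Normal := inferInstance
      have hlt : Nat.card (G ⧸ pPrimeCore p G) < m := by
        rw [← hG, (pPrimeCore p G).card_eq_card_quotient_mul_card_subgroup]
        have h1 : 1 < Nat.card (pPrimeCore p G) := (Subgroup.one_lt_card_iff_ne_bot _).2 hne
        have h2 : 0 < Nat.card (G ⧸ pPrimeCore p G) := Nat.card_pos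
        nlinarith
      let π : G →* G ⧸ pPrimeCore p G := QuotientGroup.mk' _
      have hπ : Function.Surjective π := QuotientGroup.mk'_surjective _
      have hcyc : IsCyclic ((P.mapSurjective hπ : Sylow p (G ⧸ pPrimeCore p G)) :
          Subgroup (G ⧸ pPrimeCore p G)) := by
        haveI := hP
        change IsCyclic ((P : Subgroup G).map π)
        exact isCyclic_of_surjective (π.subgroupMap _) (π.subgroupMap_surjective _)
      have hq := ih _ hlt (G ⧸ pPrimeCore p G) rfl (P.mapSurjective hπ) hcyc
        (pair_quot _ pPrimeCore_coprime hc)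
      exact hns (isPSolvable_of_normal_of_quotient _ (Or.inr pPrimeCore_coprime) hq)
    have hsimple : ∀ N : Subgroup G, N.Normal → N = ⊥ ∨ N = ⊤ := by
      intro N hN
      by_contra h
      push Not at h
      obtain ⟨h1, h2⟩ := h
      haveI := hN
      have hlt : Nat.card N < m := by
        rw [← hG]
        refine lt_of_le_of_ne (Subgroup.card_le_card_group N) ?_
        intro h3
        exact h2 (Subgroup.eq_top_of_card_eq N h3)
      have hS : IsPSolvable p N := by
        refine ih _ hlt N rfl (default : Sylow p N) ?_ (pair_sub N hc)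
        have hT : IsPGroup p (((default : Sylow p N) : Subgroup N).map N.subtype) :=
          (default : Sylow p N).isPGroup'.map _
        have h3 := isCyclic_of_isPGroup P hP _ hT
        let f : ((default : Sylow p N) : Subgroup N) →*
            ((((default : Sylow p N) : Subgroup N).map N.subtype : Subgroup G)) :=
          { toFun := fun c => ⟨c, ⟨c, c.2, rfl⟩⟩
            map_one' := rfl
            map_mul' := fun _ _ => rfl }
        refine isCyclic_of_injective f ?_
        intro c d hcd
        have := congrArg Subtype.val hcd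
        exact Subtype.ext (Subtype.ext this)
      obtain ⟨z, hzP, hzo, hzn⟩ := exists_normal_z P hP hU N h1 hS
      exact hns (of_normal_z P hP hzP hzo hzn hU)
    have hnt : Nontrivial G := by
      by_contra h
      rw [not_nontrivial_iff_subsingleton] at h
      exact hns isPSolvable_of_subsingleton
    haveI : IsSimpleGroup G := ⟨hsimple⟩
    by_cases hd : p ∣ Nat.card G
    · have hdP : p ∣ Nat.card (P : Subgroup G) := P.dvd_card_of_dvd_card hd
      obtain ⟨z', hz'⟩ := exists_prime_orderOf_dvd_card' (G := (P : Subgroup G)) p hdP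
      set z : G := (z' : G) with hz
      have hzP : z ∈ (P : Subgroup G) := z'.2
      have hzo : orderOf z = p := by
        rw [hz, Subgroup.orderOf_coe]
        exact hz'
      have hz1 : z ≠ 1 := by
        intro h
        rw [h, orderOf_one] at hzo
        exact hpp.one_lt.ne hzo
      by_cases hmove : ∀ w ∈ normalizer ((P : Subgroup G) : Set G), Commute w z
      · have h1 := normal_complement_of_centralizes P hP ⊤ le_top hzP hz1
          (fun y _ hN => hmove y hN)
        exact hns (isPSolvable_of_equiv Subgroup.topEquiv (isPSolvable_of_complement h1))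
      · push Not at hmove
        obtain ⟨w, hw, hwz⟩ := hmove
        have hr : w * z * w⁻¹ ∈ (P : Subgroup G) := (mem_normalizer_iff.1 hw z).1 hzP
        have hrz : w * z * w⁻¹ ≠ z := by
          intro h
          apply hwz
          exact mul_inv_eq_iff_eq_mul.1 h
        have hrp : (w * z * w⁻¹) ^ p = 1 := by
          rw [conj_pow, ← hzo, pow_orderOf_eq_one]
          group
        have hrz' : w * z * w⁻¹ ∈ zpowers z := mem_zpowers_of_pow_eq_one hP hzP hzo hr hrp
        have hconj : IsConj (w * z * w⁻¹) z := by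
          rw [isConj_comm, isConj_iff]
          exact ⟨w, rfl⟩
        exact core P hP hc hzP hzo hrz' hrz hconj
    · exact hns (isPSolvable_of_isPOrCoprime
        (Or.inr (Nat.Coprime.symm ((Nat.Prime.coprime_iff_not_dvd hpp).2 hd))))

/-- **The theorem on pairs of elements of order `p`**. -/
theorem s1950 {G : Type u} [Group G] [Finite G] (P : Sylow p G) (hP : IsCyclic P) :
    IsPSolvable p G ↔ ∀ x y : G, orderOf x = p → orderOf y = p →
      IsPSolvable p ↥(closure ({x, y} : Set G)) :=
  ⟨fun h _ _ _ _ => isPSolvable_subgroup _ h, fun h => forward _ G rfl P hP h⟩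

end Reduce

end Cfsg.Agent.Lib.CycPairs.Main
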