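import Cfsg.Agent.Lib.CycPairs.Sec

/-!
# Cyclic Sylow subgroups: the identities on the subgroup of order `p`
-/

set_option autoImplicit false
set_option linter.unusedSectionVars false
set_option linter.style.haveILetI false

namespace Cfsg.Agent.Lib.CycPairs.Omega

open Cfsg Subgroup
open Cfsg.Agent.Lib.CyclicSylow Cfsg.Agent.Lib.CyclicSylow.Basic
open Cfsg.Agent.Lib.Core.Basic Cfsg.Agent.Lib.Core.PSolvable
open Cfsg.Agent.Lib.StrongSec.PairSolv Cfsg.Agent.Lib.StrongSec.EABlock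
open Cfsg.Agent.Lib.Blocks.PPart
open Cfsg.Agent.Lib.Blocks.Central Cfsg.Agent.Lib.Blocks.Weak Cfsg.Agent.Lib.Blocks.Third
open Cfsg.Agent.Lib.Blocks.General
open Cfsg.Agent.Lib.ZStar.Section
open Cfsg.Agent.Lib.CycPairs.Basic Cfsg.Agent.Lib.CycPairs.Sec
open scoped ComplexConjugate

universe u

/-- The final numerical contradiction. -/
theorem final_ineq {ι : Type*} [DecidableEq ι] (B : Finset ι) (a D : ι → ℝ) {o m : ι} {P1 X : ℝ}
    (hP1 : 2 ≤ P1) (hX : 2 * (P1 + 1) ≤ X) (hs : P1 * ∑ χ ∈ B, a χ ^ 2 ≤ X)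
    (hE1 : ∑ χ ∈ B, (a χ ^ 2 + P1 * (a χ ^ 3 / D χ)) = X)
    (ho : o ∈ B) (hm : m ∈ B) (hmo : m ≠ o) (hao : a o = 1) (hDo : D o = 1) (ham : a m ≤ -1)
    (hD : ∀ χ ∈ B, 0 < D χ) (hiv : ∀ χ ∈ B, χ ≠ o → 0 < a χ → 5 * a χ ≤ 2 * D χ) : False := by
  set s := ∑ χ ∈ B, a χ ^ 2 with hsdef
  set T := ∑ χ ∈ B, a χ ^ 3 / D χ with hT
  have h1 : s + P1 * T = X := by
    rw [← hE1, Finset.sum_add_distrib, ← Finset.mul_sum]
  let c : ι → ℝ := fun χ => (if χ = o then 3 / 5 else 0) + (if χ = m then -2 / 5 else 0)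
  have hterm : ∀ χ ∈ B, a χ ^ 3 / D χ ≤ 2 / 5 * a χ ^ 2 + c χ := by
    intro χ hχ
    have hdχ := hD χ hχ
    by_cases h1 : χ = o
    · subst h1
      simp only [c, if_true, if_neg hmo.symm, hao, hDo]
      norm_num
    by_cases h2 : χ = m
    · subst h2
      simp only [c, if_neg h1, if_true, zero_add]
      have h3 : a χ ^ 3 / D χ ≤ 0 :=
        div_nonpos_of_nonpos_of_nonneg (by nlinarith [sq_nonneg (a χ)]) hdχ.le
      nlinarith
    simp only [c, if_neg h1, if_neg h2, add_zero]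
    by_cases h3 : 0 < a χ
    · have h6 := hiv χ hχ h1 h3
      rw [div_le_iff₀ hdχ]
      nlinarith [mul_nonneg (sq_nonneg (a χ)) (sub_nonneg.2 h6)]
    · have h3' : a χ ≤ 0 := not_lt.1 h3
      have h4 : a χ ^ 3 / D χ ≤ 0 :=
        div_nonpos_of_nonpos_of_nonneg (by nlinarith [sq_nonneg (a χ)]) hdχ.le
      have h5 : 0 ≤ 2 / 5 * a χ ^ 2 := by positivity
      linarith
  have hc : ∑ χ ∈ B, c χ = 1 / 5 := by
    simp only [c]
    rw [Finset.sum_add_distrib, Finset.sum_ite_eq', Finset.sum_ite_eq', if_pos ho, if_pos hm]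
    norm_num
  have hTle : T ≤ 2 / 5 * s + 1 / 5 := by
    calc T ≤ ∑ χ ∈ B, (2 / 5 * a χ ^ 2 + c χ) := Finset.sum_le_sum hterm
      _ = 2 / 5 * s + 1 / 5 := by
        rw [Finset.sum_add_distrib, ← Finset.mul_sum, hc]
  have hsnn : 0 ≤ s := Finset.sum_nonneg fun _ _ => sq_nonneg _
  have h2s : 2 * s ≤ X := by nlinarith
  have h3 : P1 * T ≤ P1 * (2 / 5 * s + 1 / 5) := mul_le_mul_of_nonneg_left hTle (by linarith)
  nlinarith

variable {G : Type u} [Group G] [Fintype G] [Fintype (IrrCharacter G)] {p : ℕ} [hp : Fact p.Prime]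
  {M : Ideal AlgInt}

open Classical in
/-- The principal block as a finite set. -/
noncomputable def blk (M : Ideal AlgInt) (G : Type u) [Group G] [Fintype G]
    [Fintype (IrrCharacter G)] : Finset (IrrCharacter G) :=
  Finset.univ.filter fun χ => χ ∈ principalBlock M G

theorem mem_blk {χ : IrrCharacter G} : χ ∈ blk M G ↔ χ ∈ principalBlock M G := by
  classical
  simp [blk]

theorem secSum_eq_sum (M : Ideal AlgInt) (y g : G) :
    secSum M y g = ∑ χ ∈ blk M G, (χ : G → ℂ) g * conj ((χ : G → ℂ) y) := by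
  classical
  unfold secSum blk
  rw [Finset.sum_filter]

/-- The sum of a character over `⟨z⟩`. -/
noncomputable def omegaSum (z : G) [Fintype (zpowers z)] (χ : IrrCharacter G) : ℂ :=
  ∑ v : zpowers z, (χ : G → ℂ) v

section Gram

variable (P : Sylow p G) (hP : IsCyclic P) {z : G} [Fintype (zpowers z)]

include hP in
/-- **The Gram identity**. -/
theorem gram (hM : IsPModular p M) (hzo : orderOf z = p)
    (hc : ∀ x y : G, orderOf x = p → orderOf y = p → IsPSolvable p ↥(closure ({x, y} : Set G)))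
    {u y : G} (hu : u ∈ (P : Subgroup G)) (hu1 : u ≠ 1) (hyo : orderOf y = p) :
    ∑ χ ∈ blk M G, omegaSum z χ * (χ : G → ℂ) y / (χ : G → ℂ) 1 * conj ((χ : G → ℂ) u) =
      (Nat.card (P : Subgroup G) : ℂ) * ecount z u := by
  classical
  have h0 : ∑ g : G, ∑ v : zpowers z, secSum M u ((v : G) * (g * y * g⁻¹)) =
      (Nat.card G : ℂ) * ((Nat.card (P : Subgroup G) : ℂ) * ecount z u) := by
    have h1 : ∀ g : G, ∑ v : zpowers z, secSum M u ((v : G) * (g * y * g⁻¹)) =
        (Nat.card (P : Subgroup G) : ℂ) * ecount z u := by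
      intro g
      have hyo' : orderOf (g * y * g⁻¹) = p := by rw [ord_conj, hyo]
      exact sum_omega_mul P hP hM hzo hu hu1 hyo' (hc _ _ hzo hyo')
    simp_rw [h1]
    rw [Finset.sum_const, Finset.card_univ, nsmul_eq_mul, ← Nat.card_eq_fintype_card]
  have key : ∀ χ : IrrCharacter G, ∑ g : G, ∑ v : zpowers z, (χ : G → ℂ) ((v : G) * (g * y * g⁻¹)) =
      (Nat.card G : ℂ) * (omegaSum z χ * (χ : G → ℂ) y / (χ : G → ℂ) 1) := by
    intro χ
    rw [Finset.sum_comm]
    simp_rw [sum_conj_mul]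
    unfold omegaSum
    rw [Finset.sum_mul, Finset.sum_div, Finset.mul_sum]
    refine Finset.sum_congr rfl fun v _ => ?_
    ring
  have h2 : ∑ g : G, ∑ v : zpowers z, secSum M u ((v : G) * (g * y * g⁻¹)) =
      (Nat.card G : ℂ) * ∑ χ ∈ blk M G, omegaSum z χ * (χ : G → ℂ) y / (χ : G → ℂ) 1 *
        conj ((χ : G → ℂ) u) := by
    simp_rw [secSum_eq_sum]
    calc _ = ∑ g : G, ∑ χ ∈ blk M G, ∑ v : zpowers z,
          (χ : G → ℂ) ((v : G) * (g * y * g⁻¹)) * conj ((χ : G → ℂ) u) :=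
          Finset.sum_congr rfl fun g _ => Finset.sum_comm
      _ = ∑ χ ∈ blk M G, ∑ g : G, ∑ v : zpowers z,
          (χ : G → ℂ) ((v : G) * (g * y * g⁻¹)) * conj ((χ : G → ℂ) u) := Finset.sum_comm
      _ = _ := by
          rw [Finset.mul_sum]
          refine Finset.sum_congr rfl fun χ _ => ?_
          simp_rw [← Finset.sum_mul]
          rw [key χ]
          ring
  have hG : (Nat.card G : ℂ) ≠ 0 := Nat.cast_ne_zero.2 Nat.card_pos.ne'
  exact mul_left_cancel₀ hG (h2.symm.trans h0)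

/-- The cardinality of `⟨z⟩`. -/
theorem card_zpowers_of (hzo : orderOf z = p) : Fintype.card (zpowers z) = p := by
  rw [← Nat.card_eq_fintype_card, Nat.card_zpowers, hzo]

/-- The multiplicity of the trivial character of `⟨z⟩`. -/
theorem exists_mult (hzo : orderOf z = p) (χ : IrrCharacter G) :
    ∃ m : ℕ, omegaSum z χ = (p : ℂ) * m := by
  obtain ⟨m, hm⟩ := Cfsg.Agent.Lib.ZStar.EC.exists_sum_eq χ (zpowers z)
  refine ⟨m, ?_⟩
  unfold omegaSum
  rw [hm, Nat.card_zpowers, hzo]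

/-- The sum over `⟨z⟩` when the character is constant on the nonidentity elements. -/
theorem omegaSum_of_const (hzo : orderOf z = p) {χ : IrrCharacter G} {b : ℂ}
    (h : ∀ v : zpowers z, v ≠ 1 → (χ : G → ℂ) v = b) :
    omegaSum z χ = (χ : G → ℂ) 1 + ((p : ℂ) - 1) * b := by
  classical
  have hpp : p.Prime := hp.out
  unfold omegaSum
  rw [← Finset.add_sum_erase Finset.univ _ (Finset.mem_univ (1 : zpowers z))]
  congr 1
  rw [Finset.sum_congr rfl (fun v hv => h v (Finset.ne_of_mem_erase hv)), Finset.sum_const,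
    Finset.card_erase_of_mem (Finset.mem_univ _), Finset.card_univ, card_zpowers_of hzo,
    nsmul_eq_mul, Nat.cast_sub hpp.one_le]
  simp

/-- An element of `⟨z⟩` other than `1` has order `p`. -/
theorem orderOf_of_mem_zpowers (hzo : orderOf z = p) {v : G} (hv : v ∈ zpowers z) (hv1 : v ≠ 1) :
    orderOf v = p := by
  obtain ⟨k, rfl⟩ := hv
  apply orderOf_eq_prime _ hv1
  simp only
  rw [← zpow_natCast, ← zpow_mul, mul_comm, zpow_mul, zpow_natCast, ← hzo, pow_orderOf_eq_one,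
    one_zpow]

include hP in
/-- **Constancy** and equality of the counting numbers. -/
theorem const_on_omega (hM : IsPModular p M) (hzP : z ∈ (P : Subgroup G)) (hzo : orderOf z = p)
    (hc : ∀ x y : G, orderOf x = p → orderOf y = p → IsPSolvable p ↥(closure ({x, y} : Set G)))
    {u y : G} (hu : u ∈ zpowers z) (hu1 : u ≠ 1) (hy : y ∈ zpowers z) (hy1 : y ≠ 1) :
    ecount z u = ecount z y ∧ ∀ χ ∈ blk M G, omegaSum z χ ≠ 0 →
      (χ : G → ℂ) u = (χ : G → ℂ) y := by
  classical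
  have hle : zpowers z ≤ (P : Subgroup G) := by
    rw [zpowers_le]
    exact hzP
  have hn0 : (Nat.card (P : Subgroup G) : ℂ) ≠ 0 := Nat.cast_ne_zero.2 Nat.card_pos.ne'
  -- the real weight
  have hw : ∀ χ : IrrCharacter G, ∃ w : ℝ, 0 ≤ w ∧ omegaSum z χ / (χ : G → ℂ) 1 = (w : ℂ) ∧
      (omegaSum z χ ≠ 0 → 0 < w) := by
    intro χ
    obtain ⟨m, hm⟩ := exists_mult hzo χ
    obtain ⟨D, hD0, hD⟩ := Cfsg.Agent.Lib.Char.Complete.exists_pos_deg_of_isIrr χ.2
    have hpp : p.Prime := hp.out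
    refine ⟨(p : ℝ) * m / D, by positivity, ?_, ?_⟩
    · rw [hm, hD]
      push_cast
      rfl
    · intro hne
      have hm0 : m ≠ 0 := by
        rintro rfl
        apply hne
        rw [hm]
        simp
      have h1 : (0 : ℝ) < p := by exact_mod_cast hpp.pos
      have h2 : (0 : ℝ) < m := by exact_mod_cast Nat.pos_of_ne_zero hm0
      have h3 : (0 : ℝ) < D := by exact_mod_cast hD0
      positivity
  choose w hw0 hwe hwpos using hw
  have hgr : ∀ a b : G, a ∈ zpowers z → a ≠ 1 → b ∈ zpowers z → b ≠ 1 →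
      ∑ χ ∈ blk M G, (w χ : ℂ) * ((χ : G → ℂ) b * conj ((χ : G → ℂ) a)) =
        (Nat.card (P : Subgroup G) : ℂ) * ecount z a := by
    intro a b ha ha1 hb hb1
    rw [← gram P hP hM hzo hc (hle ha) ha1 (orderOf_of_mem_zpowers hzo hb hb1)]
    refine Finset.sum_congr rfl fun χ _ => ?_
    rw [← hwe χ]
    ring
  have h1 := hgr u y hu hu1 hy hy1
  have h2 := hgr y u hy hy1 hu hu1
  have h3 := hgr u u hu hu1 hu hu1
  have h4 := hgr y y hy hy1 hy hy1
  have hconj : conj (∑ χ ∈ blk M G, (w χ : ℂ) * ((χ : G → ℂ) y * conj ((χ : G → ℂ) u))) =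
      ∑ χ ∈ blk M G, (w χ : ℂ) * ((χ : G → ℂ) u * conj ((χ : G → ℂ) y)) := by
    rw [map_sum]
    refine Finset.sum_congr rfl fun χ _ => ?_
    rw [map_mul, map_mul, Complex.conj_ofReal, Complex.conj_conj]
    ring
  have he : (Nat.card (P : Subgroup G) : ℂ) * ecount z u =
      (Nat.card (P : Subgroup G) : ℂ) * ecount z y := by
    rw [h1, h2] at hconj
    rw [map_mul, Complex.conj_natCast, Complex.conj_natCast] at hconj
    exact hconj
  have he' : (ecount z u : ℂ) = ecount z y := mul_left_cancel₀ hn0 he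
  refine ⟨by exact_mod_cast he', ?_⟩
  -- the sum of squares
  have hsum : ∑ χ ∈ blk M G, (w χ : ℂ) * (((χ : G → ℂ) u - (χ : G → ℂ) y) *
      conj ((χ : G → ℂ) u - (χ : G → ℂ) y)) = 0 := by
    have e : ∀ χ ∈ blk M G, (w χ : ℂ) * (((χ : G → ℂ) u - (χ : G → ℂ) y) *
        conj ((χ : G → ℂ) u - (χ : G → ℂ) y)) =
        (w χ : ℂ) * ((χ : G → ℂ) u * conj ((χ : G → ℂ) u)) +
        (w χ : ℂ) * ((χ : G → ℂ) y * conj ((χ : G → ℂ) y)) -
        (w χ : ℂ) * ((χ : G → ℂ) y * conj ((χ : G → ℂ) u)) -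
        (w χ : ℂ) * ((χ : G → ℂ) u * conj ((χ : G → ℂ) y)) := by
      intro χ _
      rw [map_sub]
      ring
    rw [Finset.sum_congr rfl e, Finset.sum_sub_distrib, Finset.sum_sub_distrib,
      Finset.sum_add_distrib, h1, h2, h3, h4]
    ring
  have hreal : ∑ χ ∈ blk M G, w χ * Complex.normSq ((χ : G → ℂ) u - (χ : G → ℂ) y) = 0 := by
    apply Complex.ofReal_injective
    rw [Complex.ofReal_zero, ← hsum]
    push_cast
    refine Finset.sum_congr rfl fun χ _ => ?_
    rw [Complex.mul_conj]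
  have hnn : ∀ χ ∈ blk M G, 0 ≤ w χ * Complex.normSq ((χ : G → ℂ) u - (χ : G → ℂ) y) :=
    fun χ _ => mul_nonneg (hw0 χ) (Complex.normSq_nonneg _)
  intro χ hχ hne
  have h5 := (Finset.sum_eq_zero_iff_of_nonneg hnn).1 hreal χ hχ
  have h6 := (mul_eq_zero.1 h5).resolve_left (hwpos χ hne).ne'
  exact sub_eq_zero.1 (Complex.normSq_eq_zero.1 h6)

/-- The characters of the principal block with a nonzero sum over `⟨z⟩`. -/
noncomputable def bpos (M : Ideal AlgInt) (z : G) [Fintype (zpowers z)] :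
    Finset (IrrCharacter G) := by
  classical
  exact (blk M G).filter fun χ => omegaSum z χ ≠ 0

theorem mem_bpos {z : G} [Fintype (zpowers z)] {χ : IrrCharacter G} :
    χ ∈ bpos M z ↔ χ ∈ blk M G ∧ omegaSum z χ ≠ 0 := by
  classical
  simp [bpos]

include hP in
/-- **The integer data** of a character in `bpos`. -/
theorem exists_int_value (hM : IsPModular p M) (hzP : z ∈ (P : Subgroup G)) (hzo : orderOf z = p)
    (hc : ∀ x y : G, orderOf x = p → orderOf y = p → IsPSolvable p ↥(closure ({x, y} : Set G)))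
    {χ : IrrCharacter G} (hχ : χ ∈ bpos M z) :
    ∃ (A : ℤ) (D m : ℕ), 0 < D ∧ 0 < m ∧ (χ : G → ℂ) z = A ∧ (χ : G → ℂ) 1 = D ∧
      omegaSum z χ = (p : ℂ) * m ∧ (D : ℤ) + ((p : ℤ) - 1) * A = (p : ℤ) * m ∧
      ∀ v : zpowers z, v ≠ 1 → (χ : G → ℂ) v = A := by
  classical
  have hpp : p.Prime := hp.out
  obtain ⟨hb, hne⟩ := mem_bpos.1 hχ
  have hz1 : z ≠ 1 := by
    rintro rfl
    rw [orderOf_one] at hzo
    exact hpp.one_lt.ne hzo
  have hconst : ∀ v : zpowers z, v ≠ 1 → (χ : G → ℂ) v = (χ : G → ℂ) z := by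
    intro v hv
    have hv' : (v : G) ≠ 1 := fun h => hv (Subtype.ext h)
    exact (const_on_omega P hP hM hzP hzo hc v.2 hv' (mem_zpowers z) hz1).2 χ hb hne
  have h1 := omegaSum_of_const hzo hconst
  obtain ⟨m, hm⟩ := exists_mult hzo χ
  obtain ⟨D, hD0, hD⟩ := Cfsg.Agent.Lib.Char.Complete.exists_pos_deg_of_isIrr χ.2
  have hm0 : 0 < m := by
    apply Nat.pos_of_ne_zero
    rintro rfl
    apply hne
    rw [hm]
    simp
  have hp1 : ((p : ℤ) - 1) ≠ 0 := by
    have := hpp.two_le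
    omega
  rw [hD] at h1
  obtain ⟨A, hA⟩ := Cfsg.Agent.Lib.Coh2.ClassCongr.exists_int_of_isIntegral_of_mul
    (Cfsg.Agent.Lib.Char.RealOdd.isIntegral_irr χ.2 z) hp1
    (b := (p : ℤ) * m - D) (by push_cast; linear_combination hm - h1)
  refine ⟨A, D, m, hD0, hm0, hA, hD, hm, ?_, fun v hv => (hconst v hv).trans hA⟩
  rw [hA, hm] at h1
  have h2 : ((D : ℤ) + ((p : ℤ) - 1) * A : ℂ) = (p : ℂ) * m := by
    push_cast
    exact h1.symm
  exact_mod_cast h2

include hP in
/-- Characters other than the trivial one: the degree is at least `A + p`. -/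
theorem deg_ge (hM : IsPModular p M) (hzP : z ∈ (P : Subgroup G)) (hzo : orderOf z = p)
    (hc : ∀ x y : G, orderOf x = p → orderOf y = p → IsPSolvable p ↥(closure ({x, y} : Set G)))
    (hK : normalClosure ({z} : Set G) = ⊤) {χ : IrrCharacter G} (hχ : χ ∈ bpos M z)
    (hne : χ ≠ oneI G) {A : ℤ} {D : ℕ} (hA : (χ : G → ℂ) z = A) (hD : (χ : G → ℂ) 1 = D) :
    A + p ≤ D := by
  have hpp : p.Prime := hp.out
  obtain ⟨A', D', m, -, -, hA', hD', -, hrel, -⟩ := exists_int_value P hP hM hzP hzo hc hχ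
  have e1 : A' = A := by
    rw [hA] at hA'
    exact_mod_cast hA'.symm
  have e2 : D' = D := by
    rw [hD] at hD'
    exact_mod_cast hD'.symm
  subst e1 e2
  have h1 : |(A' : ℝ)| ≤ D' := by
    have h2 := Cfsg.Agent.Lib.Char.Degree.norm_le_charDegree
      (Cfsg.Agent.Lib.Char.Basic.isCharacter_of_isIrrCharacter χ.2) z
    rw [Cfsg.Agent.Lib.Char.Degree.charDegree_eq_of_eq_natCast hD, hA] at h2
    simpa using h2
  have h3 : A' ≤ D' := by
    have := (abs_le.1 h1).2
    exact_mod_cast this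
  have h4 : A' ≠ D' := by
    intro h5
    apply hne
    apply Cfsg.Agent.Lib.ZStar.Reduce.eq_oneI_of_value hK
    rw [hA, hD, h5]
    simp
  have h6 : (0 : ℤ) < (D' : ℤ) - A' := by omega
  have h7 : (p : ℤ) ∣ (D' : ℤ) - A' := ⟨(m : ℤ) - A', by linear_combination hrel⟩
  have h8 := Int.le_of_dvd h6 h7
  omega

include hP in
/-- The second identity, in real form. -/
theorem real_data (hM : IsPModular p M) (hzP : z ∈ (P : Subgroup G)) (hzo : orderOf z = p)
    (hc : ∀ x y : G, orderOf x = p → orderOf y = p → IsPSolvable p ↥(closure ({x, y} : Set G)))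
    {χ : IrrCharacter G} (hχ : χ ∈ bpos M z) :
    (χ : G → ℂ) z = (((χ : G → ℂ) z).re : ℂ) ∧ (χ : G → ℂ) 1 = (((χ : G → ℂ) 1).re : ℂ) ∧
      0 < ((χ : G → ℂ) 1).re := by
  obtain ⟨A, D, m, hD0, -, hA, hD, -, -, -⟩ := exists_int_value P hP hM hzP hzo hc hχ
  refine ⟨by rw [hA]; simp, by rw [hD]; simp, ?_⟩
  rw [hD]
  simpa using hD0

include hP in
/-- **The identity `E1`**. -/
theorem identity_one (hM : IsPModular p M) (hzP : z ∈ (P : Subgroup G)) (hzo : orderOf z = p)
    (hc : ∀ x y : G, orderOf x = p → orderOf y = p → IsPSolvable p ↥(closure ({x, y} : Set G))) :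
    ∑ χ ∈ bpos M z, (((χ : G → ℂ) z).re ^ 2 + ((p : ℝ) - 1) *
      (((χ : G → ℂ) z).re ^ 3 / ((χ : G → ℂ) 1).re)) =
      (Nat.card (P : Subgroup G) : ℝ) * ecount z z := by
  classical
  have hpp : p.Prime := hp.out
  have hz1 : z ≠ 1 := by
    rintro rfl
    rw [orderOf_one] at hzo
    exact hpp.one_lt.ne hzo
  have h := gram P hP hM hzo hc hzP hz1 hzo
  apply Complex.ofReal_injective
  push_cast
  rw [← h]
  have hsub : ∑ χ ∈ blk M G, omegaSum z χ * (χ : G → ℂ) z / (χ : G → ℂ) 1 * conj ((χ : G → ℂ) z) =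
      ∑ χ ∈ bpos M z, omegaSum z χ * (χ : G → ℂ) z / (χ : G → ℂ) 1 * conj ((χ : G → ℂ) z) := by
    unfold bpos
    symm
    apply Finset.sum_filter_of_ne
    intro χ _ hne h0
    apply hne
    rw [h0]
    simp
  rw [hsub]
  refine Finset.sum_congr rfl fun χ hχ => ?_
  obtain ⟨A, D, m, hD0, -, hA, hD, hO, hrel, -⟩ := exists_int_value P hP hM hzP hzo hc hχ
  have hA' : (((χ : G → ℂ) z).re : ℂ) = A := by
    rw [hA]
    simp
  have hD' : (((χ : G → ℂ) 1).re : ℂ) = D := by
    rw [hD]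
    simp
  have hO' : omegaSum z χ = (D : ℂ) + ((p : ℂ) - 1) * A := by
    rw [hO]
    have : (((D : ℤ) + ((p : ℤ) - 1) * A : ℤ) : ℂ) = (((p : ℤ) * m : ℤ) : ℂ) := by rw [hrel]
    push_cast at this
    exact this.symm
  have hDne : (D : ℂ) ≠ 0 := Nat.cast_ne_zero.2 hD0.ne'
  rw [hA', hD', hO', hA, hD, map_intCast]
  field_simp
  try ring

include hP in
/-- **The identity `E3`**. -/
theorem identity_three (hM : IsPModular p M) (hzP : z ∈ (P : Subgroup G)) (hzo : orderOf z = p)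
    (hc : ∀ x y : G, orderOf x = p → orderOf y = p → IsPSolvable p ↥(closure ({x, y} : Set G))) :
    ∑ χ ∈ bpos M z, (((χ : G → ℂ) 1).re + ((p : ℝ) - 1) * ((χ : G → ℂ) z).re) *
      ((χ : G → ℂ) z).re = (Nat.card (P : Subgroup G) : ℝ) * ecount z z := by
  classical
  have hpp : p.Prime := hp.out
  have hz1 : z ≠ 1 := by
    rintro rfl
    rw [orderOf_one] at hzo
    exact hpp.one_lt.ne hzo
  have h := sum_omega P hM hzP hzP hz1 hP
  apply Complex.ofReal_injective
  push_cast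
  rw [← h]
  have h1 : ∑ v : zpowers z, secSum M z (v : G) =
      ∑ χ ∈ blk M G, omegaSum z χ * conj ((χ : G → ℂ) z) := by
    simp_rw [secSum_eq_sum]
    rw [Finset.sum_comm]
    refine Finset.sum_congr rfl fun χ _ => ?_
    unfold omegaSum
    rw [Finset.sum_mul]
  have hsub : ∑ χ ∈ blk M G, omegaSum z χ * conj ((χ : G → ℂ) z) =
      ∑ χ ∈ bpos M z, omegaSum z χ * conj ((χ : G → ℂ) z) := by
    unfold bpos
    symm
    apply Finset.sum_filter_of_ne
    intro χ _ hne h0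
    apply hne
    rw [h0]
    simp
  rw [h1, hsub]
  refine Finset.sum_congr rfl fun χ hχ => ?_
  obtain ⟨A, D, m, hD0, -, hA, hD, hO, hrel, -⟩ := exists_int_value P hP hM hzP hzo hc hχ
  have hA' : (((χ : G → ℂ) z).re : ℂ) = A := by
    rw [hA]
    simp
  have hD' : (((χ : G → ℂ) 1).re : ℂ) = D := by
    rw [hD]
    simp
  have hO' : omegaSum z χ = (D : ℂ) + ((p : ℂ) - 1) * A := by
    rw [hO]
    have : (((D : ℤ) + ((p : ℤ) - 1) * A : ℤ) : ℂ) = (((p : ℤ) * m : ℤ) : ℂ) := by rw [hrel]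
    push_cast at this
    exact this.symm
  rw [hA', hD', hO', hA, map_intCast]

include hP in
/-- The inequality `(p - 1) s ≤ n e`. -/
theorem sum_sq_le (hM : IsPModular p M) (hzP : z ∈ (P : Subgroup G)) (hzo : orderOf z = p)
    (hc : ∀ x y : G, orderOf x = p → orderOf y = p → IsPSolvable p ↥(closure ({x, y} : Set G))) :
    ((p : ℝ) - 1) * ∑ χ ∈ bpos M z, ((χ : G → ℂ) z).re ^ 2 ≤
      (Nat.card (P : Subgroup G) : ℝ) * ecount z z := by
  classical
  have hpp : p.Prime := hp.out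
  have hz1 : z ≠ 1 := by
    rintro rfl
    rw [orderOf_one] at hzo
    exact hpp.one_lt.ne hzo
  have hle : zpowers z ≤ (P : Subgroup G) := by
    rw [zpowers_le]
    exact hzP
  have hp1 : (0 : ℝ) < (p : ℝ) - 1 := by
    have : (1 : ℝ) < p := by exact_mod_cast hpp.one_lt
    linarith
  set S : Finset (zpowers z) := Finset.univ.erase 1 with hS
  have hScard : S.card = p - 1 := by
    rw [hS, Finset.card_erase_of_mem (Finset.mem_univ _), Finset.card_univ, card_zpowers_of hzo]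
  let f : IrrCharacter G → ℂ := fun χ => ∑ v ∈ S, (χ : G → ℂ) v
  -- inner sums
  have h1 : ∀ u ∈ S, ∑ y ∈ S, secSum M (u : G) (y : G) =
      (Nat.card (P : Subgroup G) : ℂ) * ecount z z := by
    intro u hu
    have hu1 : (u : G) ≠ 1 := fun h => (Finset.ne_of_mem_erase hu) (Subtype.ext h)
    have h2 := sum_omega P hM hzP (hle u.2) hu1 hP
    rw [← Finset.add_sum_erase Finset.univ _ (Finset.mem_univ (1 : zpowers z))] at h2
    have h3 : secSum M (u : G) (((1 : zpowers z)) : G) = 0 := by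
      apply secSum_of_not_conj hM P (hle u.2) (isPPart_self' P (one_mem _))
      intro h
      exact hu1 (isConj_one_right.1 h)
    rw [h3, zero_add] at h2
    rw [h2, (const_on_omega P hP hM hzP hzo hc u.2 hu1 (mem_zpowers z) hz1).1]
  have h2 : ∑ χ ∈ blk M G, f χ * conj (f χ) =
      ((p : ℂ) - 1) * ((Nat.card (P : Subgroup G) : ℂ) * ecount z z) := by
    have e1 : ∀ χ ∈ blk M G, f χ * conj (f χ) =
        ∑ u ∈ S, ∑ y ∈ S, (χ : G → ℂ) y * conj ((χ : G → ℂ) u) := by
      intro χ _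
      simp only [f]
      rw [map_sum, Finset.sum_mul_sum, Finset.sum_comm]
    rw [Finset.sum_congr rfl e1, Finset.sum_comm]
    have e2 : ∀ u ∈ S, ∑ χ ∈ blk M G, ∑ y ∈ S, (χ : G → ℂ) y * conj ((χ : G → ℂ) u) =
        (Nat.card (P : Subgroup G) : ℂ) * ecount z z := by
      intro u hu
      rw [← h1 u hu, Finset.sum_comm]
      refine Finset.sum_congr rfl fun y _ => ?_
      rw [secSum_eq_sum]
    rw [Finset.sum_congr rfl e2, Finset.sum_const, hScard, nsmul_eq_mul, Nat.cast_sub hpp.one_le]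
    simp
  have h3 : ∑ χ ∈ blk M G, Complex.normSq (f χ) =
      ((p : ℝ) - 1) * ((Nat.card (P : Subgroup G) : ℝ) * ecount z z) := by
    apply Complex.ofReal_injective
    push_cast
    rw [← h2]
    refine Finset.sum_congr rfl fun χ _ => ?_
    rw [Complex.mul_conj]
  have h4 : ∑ χ ∈ bpos M z, Complex.normSq (f χ) ≤ ∑ χ ∈ blk M G, Complex.normSq (f χ) := by
    apply Finset.sum_le_sum_of_subset_of_nonneg
    · intro χ hχ
      exact (mem_bpos.1 hχ).1
    · intro χ _ _
      exact Complex.normSq_nonneg _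
  have h5 : ∀ χ ∈ bpos M z, Complex.normSq (f χ) = ((p : ℝ) - 1) ^ 2 * ((χ : G → ℂ) z).re ^ 2 := by
    intro χ hχ
    obtain ⟨A, D, m, hD0, -, hA, hD, hO, hrel, hconst⟩ := exists_int_value P hP hM hzP hzo hc hχ
    have e1 : f χ = (((p : ℝ) - 1) * (A : ℝ) : ℝ) := by
      simp only [f]
      rw [Finset.sum_congr rfl (fun v hv => hconst v (Finset.ne_of_mem_erase hv)), Finset.sum_const,
        hScard, nsmul_eq_mul, Nat.cast_sub hpp.one_le]
      simp
    rw [e1, Complex.normSq_ofReal, hA]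
    simp
    ring
  rw [Finset.sum_congr rfl h5, ← Finset.mul_sum, h3] at h4
  have h6 : ((p : ℝ) - 1) * (((p : ℝ) - 1) * ∑ χ ∈ bpos M z, ((χ : G → ℂ) z).re ^ 2) ≤
      ((p : ℝ) - 1) * ((Nat.card (P : Subgroup G) : ℝ) * ecount z z) := by
    calc _ = ((p : ℝ) - 1) ^ 2 * ∑ χ ∈ bpos M z, ((χ : G → ℂ) z).re ^ 2 := by ring
      _ ≤ _ := h4
  exact le_of_mul_le_mul_left h6 hp1

/-- The counting number is at most `p - 1`. -/
theorem ecount_le (hzo : orderOf z = p) (hz1 : z ≠ 1) : ecount z z ≤ p - 1 := by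
  classical
  unfold ecount
  have h1 : (Finset.univ.filter fun r : zpowers z => IsConj (r : G) z) ⊆ Finset.univ.erase 1 := by
    intro r hr
    simp only [Finset.mem_filter, Finset.mem_univ, true_and] at hr
    simp only [Finset.mem_erase, Finset.mem_univ, and_true]
    rintro rfl
    exact hz1 (isConj_one_right.1 hr)
  have h2 := Finset.card_le_card h1
  rw [Finset.card_erase_of_mem (Finset.mem_univ _), Finset.card_univ, card_zpowers_of hzo] at h2
  convert h2

include hP in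
/-- **The existence of a character with a negative value**. -/
theorem exists_neg (hM : IsPModular p M) (hzP : z ∈ (P : Subgroup G)) (hzo : orderOf z = p)
    (hc : ∀ x y : G, orderOf x = p → orderOf y = p → IsPSolvable p ↥(closure ({x, y} : Set G)))
    (hK : normalClosure ({z} : Set G) = ⊤) (he : 2 ≤ ecount z z) :
    ∃ χ ∈ bpos M z, ((χ : G → ℂ) z).re < 0 := by
  classical
  have hpp : p.Prime := hp.out
  by_contra hcon
  push Not at hcon
  have h1 := identity_one P hP hM hzP hzo hc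
  have h3 := identity_three P hP hM hzP hzo hc
  set n : ℝ := (Nat.card (P : Subgroup G) : ℝ) * ecount z z with hn
  have hp1 : (0 : ℝ) ≤ (p : ℝ) - 1 := by
    have : (1 : ℝ) < p := by exact_mod_cast hpp.one_lt
    linarith
  have hterm : ∀ χ ∈ bpos M z, 0 ≤ ((((χ : G → ℂ) 1).re + ((p : ℝ) - 1) * ((χ : G → ℂ) z).re) *
      ((χ : G → ℂ) z).re) - (((χ : G → ℂ) z).re ^ 2 + ((p : ℝ) - 1) *
      (((χ : G → ℂ) z).re ^ 3 / ((χ : G → ℂ) 1).re)) := by
    intro χ hχ
    obtain ⟨-, -, hd⟩ := real_data P hP hM hzP hzo hc hχ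
    have ha := hcon χ hχ
    obtain ⟨A, D, m, hD0, -, hA, hD, -, -, -⟩ := exists_int_value P hP hM hzP hzo hc hχ
    have hale : ((χ : G → ℂ) z).re ≤ ((χ : G → ℂ) 1).re := by
      have h2 := Cfsg.Agent.Lib.Char.Degree.norm_le_charDegree
        (Cfsg.Agent.Lib.Char.Basic.isCharacter_of_isIrrCharacter χ.2) z
      rw [Cfsg.Agent.Lib.Char.Degree.charDegree_eq_of_eq_natCast hD] at h2
      have h3 : ((χ : G → ℂ) 1).re = D := by
        rw [hD]
        simp
      rw [h3]
      exact (Complex.re_le_norm _).trans h2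
    set a := ((χ : G → ℂ) z).re
    set d := ((χ : G → ℂ) 1).re
    have e : (d + ((p : ℝ) - 1) * a) * a - (a ^ 2 + ((p : ℝ) - 1) * (a ^ 3 / d)) =
        (d + ((p : ℝ) - 1) * a) * a * (d - a) / d := by
      field_simp
      try ring
    rw [e]
    apply div_nonneg _ hd.le
    apply mul_nonneg (mul_nonneg _ ha) (by linarith)
    have := mul_nonneg hp1 ha
    linarith
  have hsum0 : ∑ χ ∈ bpos M z, (((((χ : G → ℂ) 1).re + ((p : ℝ) - 1) * ((χ : G → ℂ) z).re) *
      ((χ : G → ℂ) z).re) - (((χ : G → ℂ) z).re ^ 2 + ((p : ℝ) - 1) *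
      (((χ : G → ℂ) z).re ^ 3 / ((χ : G → ℂ) 1).re))) = 0 := by
    rw [Finset.sum_sub_distrib, h1, h3, sub_self]
  have hzero := (Finset.sum_eq_zero_iff_of_nonneg hterm).1 hsum0
  have hall : ∀ χ ∈ bpos M z, χ ≠ oneI G → ((χ : G → ℂ) z).re = 0 := by
    intro χ hχ hne
    have h0 := hzero χ hχ
    obtain ⟨-, -, hd⟩ := real_data P hP hM hzP hzo hc hχ
    have ha := hcon χ hχ
    obtain ⟨A, D, m, hD0, -, hA, hD, -, -, -⟩ := exists_int_value P hP hM hzP hzo hc hχ
    have h4 := deg_ge P hP hM hzP hzo hc hK hχ hne hA hD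
    have e1 : ((χ : G → ℂ) z).re = A := by
      rw [hA]
      simp
    have e2 : ((χ : G → ℂ) 1).re = D := by
      rw [hD]
      simp
    have h5 : (A : ℝ) + p ≤ D := by exact_mod_cast h4
    have hpos : (0 : ℝ) < p := by exact_mod_cast hpp.pos
    rw [e1, e2] at h0
    rw [e1]
    rw [e1] at ha
    have hD0' : (0 : ℝ) < D := by exact_mod_cast hD0
    have e : ((D : ℝ) + ((p : ℝ) - 1) * A) * A - ((A : ℝ) ^ 2 + ((p : ℝ) - 1) * ((A : ℝ) ^ 3 / D)) =
        ((D : ℝ) + ((p : ℝ) - 1) * A) * A * (D - A) / D := by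
      field_simp
      try ring
    rw [e] at h0
    have h6 := (div_eq_zero_iff.1 h0).resolve_right hD0'.ne'
    have h7 : (D : ℝ) - A ≠ 0 := by
      intro h
      linarith
    have h8 := (mul_eq_zero.1 h6).resolve_right h7
    have h9 : (D : ℝ) + ((p : ℝ) - 1) * A ≠ 0 := by
      have := mul_nonneg hp1 ha
      intro h
      linarith
    exact (mul_eq_zero.1 h8).resolve_left h9
  haveI := hM.2.1.isPrime
  have hone : oneI G ∈ bpos M z := by
    rw [mem_bpos]
    refine ⟨mem_blk.2 (mem_blockOf_self (oneI G)), ?_⟩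
    unfold omegaSum
    simp only [oneI_apply, Finset.sum_const, Finset.card_univ, card_zpowers_of hzo, nsmul_eq_mul,
      mul_one]
    exact Nat.cast_ne_zero.2 hpp.ne_zero
  rw [Finset.sum_eq_single_of_mem (oneI G) hone] at h3
  · simp only [oneI_apply, Complex.one_re] at h3
    have hnge : (p : ℝ) ≤ Nat.card (P : Subgroup G) := by
      have h0 := Subgroup.orderOf_dvd_natCard (P : Subgroup G) hzP
      rw [hzo] at h0
      exact_mod_cast Nat.le_of_dvd Nat.card_pos h0
    have he' : (2 : ℝ) ≤ ecount z z := by exact_mod_cast he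
    have hpos : (0 : ℝ) < p := by exact_mod_cast hpp.pos
    rw [hn] at h3
    nlinarith
  · intro χ hχ hne
    rw [hall χ hχ hne]
    simp

/-- **The reduction of the theorem to a bound on the values**. -/
theorem false_of_bound (hM : IsPModular p M) (hzP : z ∈ (P : Subgroup G)) (hzo : orderOf z = p)
    (hP' : IsCyclic P)
    (hc : ∀ x y : G, orderOf x = p → orderOf y = p → IsPSolvable p ↥(closure ({x, y} : Set G)))
    (hK : normalClosure ({z} : Set G) = ⊤) (he : 2 ≤ ecount z z)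
    (hiv : ∀ χ ∈ bpos M z, χ ≠ oneI G → 0 < ((χ : G → ℂ) z).re →
      5 * ((χ : G → ℂ) z).re ≤ 2 * ((χ : G → ℂ) 1).re) : False := by
  classical
  have hpp : p.Prime := hp.out
  have hz1 : z ≠ 1 := by
    rintro rfl
    rw [orderOf_one] at hzo
    exact hpp.one_lt.ne hzo
  obtain ⟨m, hm, hm0⟩ := exists_neg P hP' hM hzP hzo hc hK he
  haveI := hM.2.1.isPrime
  have hone : oneI G ∈ bpos M z := by
    rw [mem_bpos]
    refine ⟨mem_blk.2 (mem_blockOf_self (oneI G)), ?_⟩
    unfold omegaSum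
    simp only [oneI_apply, Finset.sum_const, Finset.card_univ, card_zpowers_of hzo, nsmul_eq_mul,
      mul_one]
    exact Nat.cast_ne_zero.2 hpp.ne_zero
  have hmo : m ≠ oneI G := by
    rintro rfl
    simp only [oneI_apply, Complex.one_re] at hm0
    linarith
  have ham : ((m : G → ℂ) z).re ≤ -1 := by
    obtain ⟨A, D, k, -, -, hA, -, -, -, -⟩ := exists_int_value P hP' hM hzP hzo hc hm
    have e : ((m : G → ℂ) z).re = A := by
      rw [hA]
      simp
    rw [e] at hm0 ⊢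
    have h1 : A < 0 := by exact_mod_cast hm0
    have h2 : A ≤ -1 := by omega
    exact_mod_cast h2
  have he1 := ecount_le hzo hz1
  have hp3 : (2 : ℝ) ≤ (p : ℝ) - 1 := by
    have h1 : 2 ≤ p - 1 := he.trans he1
    have h2 : 3 ≤ p := by omega
    have h3 : (3 : ℝ) ≤ p := by exact_mod_cast h2
    linarith
  have hX : 2 * ((p : ℝ) - 1 + 1) ≤ (Nat.card (P : Subgroup G) : ℝ) * ecount z z := by
    have hnge : (p : ℝ) ≤ Nat.card (P : Subgroup G) := by
      have h0 := Subgroup.orderOf_dvd_natCard (P : Subgroup G) hzP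
      rw [hzo] at h0
      exact_mod_cast Nat.le_of_dvd Nat.card_pos h0
    have he' : (2 : ℝ) ≤ ecount z z := by exact_mod_cast he
    have hpos : (0 : ℝ) < p := by exact_mod_cast hpp.pos
    nlinarith
  exact final_ineq (bpos M z) (fun χ => ((χ : G → ℂ) z).re) (fun χ => ((χ : G → ℂ) 1).re)
    hp3 hX (sum_sq_le P hP' hM hzP hzo hc) (identity_one P hP' hM hzP hzo hc) hone hm hmo
    (by simp) (by simp) ham (fun χ hχ => (real_data P hP' hM hzP hzo hc hχ).2.2) hiv

end Gram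

end Cfsg.Agent.Lib.CycPairs.Omega
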