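import Cfsg.Agent.Lib.CycPairs.Basic

/-!
# Cyclic Sylow subgroups: the section functions in the principal block
-/

set_option autoImplicit false
set_option linter.unusedSectionVars false
set_option linter.style.haveILetI false

namespace Cfsg.Agent.Lib.CycPairs.Sec

open Cfsg Subgroup
open Cfsg.Agent.Lib.CyclicSylow Cfsg.Agent.Lib.CyclicSylow.Basic
open Cfsg.Agent.Lib.Core.Basic Cfsg.Agent.Lib.Core.PSolvable
open Cfsg.Agent.Lib.StrongSec.PairSolv Cfsg.Agent.Lib.StrongSec.EABlock
open Cfsg.Agent.Lib.Blocks.PPart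
open Cfsg.Agent.Lib.Blocks.Central Cfsg.Agent.Lib.Blocks.Weak Cfsg.Agent.Lib.Blocks.Third
open Cfsg.Agent.Lib.Blocks.General
open Cfsg.Agent.Lib.ZStar.Section
open Cfsg.Agent.Lib.CycPairs.Basic
open scoped ComplexConjugate

universe u

variable {G : Type u} [Group G] [Fintype G] [Fintype (IrrCharacter G)] {p : ℕ} [hp : Fact p.Prime]
  {M : Ideal AlgInt}

/-- The order of an element of a Sylow subgroup. -/
theorem orderOf_of_mem (P : Sylow p G) {u : G} (hu : u ∈ (P : Subgroup G)) :
    ∃ k : ℕ, orderOf u = p ^ k := by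
  obtain ⟨k, hk⟩ := (IsPGroup.iff_orderOf.mp P.isPGroup') ⟨u, hu⟩
  exact ⟨k, by rw [← hk]; exact (Subgroup.orderOf_mk u hu).symm⟩

/-- The `p`-regular elements of `C(u)` lie in its core. -/
theorem hreg_of_mem (P : Sylow p G) (hP : IsCyclic P) {u : G} (hu : u ∈ (P : Subgroup G))
    (hu1 : u ≠ 1) (c : centralizer ({u} : Set G)) (hc : ¬ p ∣ orderOf c) :
    c ∈ pPrimeCore p (centralizer ({u} : Set G)) :=
  mem_core_of_regular (isPGroup_quot_of_complement (centralizer_complement P hP hu hu1)) hc

/-- The norm of the section of `u`. -/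
theorem secSum_self (hM : IsPModular p M) (P : Sylow p G) (hP : IsCyclic P) {u : G}
    (hu : u ∈ (P : Subgroup G)) (hu1 : u ≠ 1) :
    secSum M u u = Nat.card (P : Subgroup G) := by
  have hq := isPGroup_quot_of_complement (centralizer_complement P hP hu hu1)
  have hPC : (P : Subgroup G) ≤ centralizer ({u} : Set G) := by
    intro a ha
    rw [mem_centralizer_singleton_iff]
    exact comm_of_isCyclic hP ha hu
  have hcard := card_centralizer_eq P hPC hq
  have hnorm := section_norm hM (orderOf_of_mem P hu) (hreg_of_mem P hP hu hu1)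
  rw [hcard] at hnorm
  push_cast at hnorm
  have hne : (Nat.card (pPrimeCore p ↥(centralizer ({u} : Set G))) : ℂ) ≠ 0 :=
    Nat.cast_ne_zero.2 Nat.card_pos.ne'
  exact mul_left_cancel₀ hne hnorm

/-- The value of a character of the principal block on the section of `u`. -/
theorem value_sec (hM : IsPModular p M) (P : Sylow p G) (hP : IsCyclic P) {u g u' : G}
    (hu : u ∈ (P : Subgroup G)) (hu1 : u ≠ 1) (hg : IsPPart p g u') (hc : IsConj u' u)
    {χ : IrrCharacter G} (hχ : χ ∈ principalBlock M G) :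
    (χ : G → ℂ) g = (χ : G → ℂ) u := by
  obtain ⟨y, e, hcomm, -, hy⟩ := hg
  obtain ⟨t, ht⟩ := isConj_iff.1 hc
  have hvC : t * y * t⁻¹ ∈ centralizer ({u} : Set G) := by
    rw [mem_centralizer_singleton_iff, ← ht]
    have e1 : u' * y = y * u' := hcomm.eq
    calc t * y * t⁻¹ * (t * u' * t⁻¹) = t * (y * u') * t⁻¹ := by group
      _ = t * (u' * y) * t⁻¹ := by rw [e1]
      _ = t * u' * t⁻¹ * (t * y * t⁻¹) := by group
  let v : centralizer ({u} : Set G) := ⟨t * y * t⁻¹, hvC⟩
  have hv : v ∈ pPrimeCore p (centralizer ({u} : Set G)) := by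
    apply hreg_of_mem P hP hu hu1 v
    rw [← Subgroup.orderOf_coe]
    change ¬ p ∣ orderOf (t * y * t⁻¹)
    rw [ord_conj]
    exact hy
  haveI := hM.2.1.isPrime
  have h := zstar hM (orderOf_of_mem P hu) hv hχ
  rw [← h]
  have e2 : u * (v : G) = t * g * t⁻¹ := by
    change u * (t * y * t⁻¹) = t * g * t⁻¹
    rw [← ht, ← e]
    group
  rw [e2, Cfsg.Agent.Lib.Char.Basic.isClassFunction_of_isIrrCharacter χ.2 g t]

/-- The section function on the section. -/
theorem secSum_of_conj (hM : IsPModular p M) (P : Sylow p G) (hP : IsCyclic P) {u g u' : G}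
    (hu : u ∈ (P : Subgroup G)) (hu1 : u ≠ 1) (hg : IsPPart p g u') (hc : IsConj u' u) :
    secSum M u g = Nat.card (P : Subgroup G) := by
  rw [← secSum_self hM P hP hu hu1]
  unfold secSum
  refine Finset.sum_congr rfl fun χ _ => ?_
  by_cases hχ : χ ∈ principalBlock M G
  · simp only [if_pos hχ]
    rw [value_sec hM P hP hu hu1 hg hc hχ]
  · simp only [if_neg hχ]

/-- The section function off the section. -/
theorem secSum_of_not_conj (hM : IsPModular p M) (P : Sylow p G) {u g u' : G}
    (hu : u ∈ (P : Subgroup G)) (hg : IsPPart p g u') (hc : ¬ IsConj u' u) :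
    secSum M u g = 0 :=
  secSum_eq_zero hM (orderOf_of_mem P hu) hg hc

/-- The section function, in one formula. -/
theorem secSum_of_part (hM : IsPModular p M) (P : Sylow p G) (hP : IsCyclic P) {u g u' : G}
    (hu : u ∈ (P : Subgroup G)) (hu1 : u ≠ 1) (hg : IsPPart p g u') [Decidable (IsConj u' u)] :
    secSum M u g = if IsConj u' u then (Nat.card (P : Subgroup G) : ℂ) else 0 := by
  split_ifs with h
  · exact secSum_of_conj hM P hP hu hu1 hg h
  · exact secSum_of_not_conj hM P hu hg h

/-- A `p`-element is its own `p`-part. -/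
theorem isPPart_self' (P : Sylow p G) {u : G} (hu : u ∈ (P : Subgroup G)) : IsPPart p u u :=
  isPPart_self_of (orderOf_of_mem P hu) hp.out

section Omega

variable (P : Sylow p G) (hP : IsCyclic P) {z : G} [Fintype (zpowers z)]

/-- The number of elements of `⟨z⟩` conjugate to `u`. -/
noncomputable def ecount (z : G) [Fintype (zpowers z)] (u : G) : ℕ := by
  classical
  exact (Finset.univ.filter fun r : zpowers z => IsConj (r : G) u).card

include hP in
/-- **Sum over `⟨z⟩` of the section function at `v y`**. -/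
theorem sum_omega_mul (hM : IsPModular p M) (hzo : orderOf z = p) {u y : G}
    (hu : u ∈ (P : Subgroup G)) (hu1 : u ≠ 1) (hyo : orderOf y = p)
    (hS : IsPSolvable p ↥(closure ({z, y} : Set G))) :
    ∑ v : zpowers z, secSum M u ((v : G) * y) =
      (Nat.card (P : Subgroup G) : ℂ) * ecount z u := by
  classical
  obtain ⟨j, hj⟩ := pair_structure P hP hzo hyo hS
  have h1 : ∀ v : zpowers z, secSum M u ((v : G) * y) =
      if IsConj ((v * ⟨z ^ j, pow_mem (mem_zpowers z) j⟩ : zpowers z) : G) u then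
        (Nat.card (P : Subgroup G) : ℂ) else 0 := by
    intro v
    obtain ⟨u', hu', hc⟩ := hj v v.2
    rw [secSum_of_part hM P hP hu hu1 hu']
    have hiff : IsConj u' u ↔ IsConj ((v * ⟨z ^ j, pow_mem (mem_zpowers z) j⟩ : zpowers z) : G) u :=
      ⟨fun h => hc.symm.trans h, fun h => hc.trans h⟩
    simp only [hiff]
  simp_rw [h1]
  refine (Equiv.sum_comp (Equiv.mulRight (⟨z ^ j, pow_mem (mem_zpowers z) j⟩ : zpowers z))
    (fun v : zpowers z => if IsConj (v : G) u then (Nat.card (P : Subgroup G) : ℂ) else 0)).trans ?_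
  rw [Finset.sum_ite, Finset.sum_const, Finset.sum_const_zero, add_zero, nsmul_eq_mul, mul_comm]
  unfold ecount
  rfl

/-- The values of the section function on `⟨z⟩`. -/
theorem sum_omega (hM : IsPModular p M) (hzP : z ∈ (P : Subgroup G)) {u : G}
    (hu : u ∈ (P : Subgroup G)) (hu1 : u ≠ 1) (hP' : IsCyclic P) :
    ∑ v : zpowers z, secSum M u (v : G) = (Nat.card (P : Subgroup G) : ℂ) * ecount z u := by
  classical
  have hle : zpowers z ≤ (P : Subgroup G) := by
    rw [zpowers_le]
    exact hzP
  have h1 : ∀ v : zpowers z, secSum M u (v : G) =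
      if IsConj (v : G) u then (Nat.card (P : Subgroup G) : ℂ) else 0 := fun v =>
    secSum_of_part hM P hP' hu hu1 (isPPart_self' P (hle v.2))
  simp_rw [h1]
  rw [Finset.sum_ite, Finset.sum_const, Finset.sum_const_zero, add_zero, nsmul_eq_mul, mul_comm]
  unfold ecount
  rfl

end Omega

end Cfsg.Agent.Lib.CycPairs.Sec
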